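import Cfsg.Agent.ThreeSizes.Radical
import Cfsg.Agent.ThreeSizes.Isolated
import Cfsg.Agent.InvolCalc.ZStarApps
import Cfsg.Agent.OddChar.PF.OddOrder
import Cfsg.Agent.Chars.Burnside
import Cfsg.Agent.Coprime.Hall

/-!
# The involution of class `a` outside the radical: a contradiction in the quotient
-/

set_option autoImplicit false
set_option linter.unusedSectionVars false
set_option linter.style.haveILetI false

namespace Cfsg.Lib.ThreeSizes

open Subgroup Cfsg.Lib.ClassSize Cfsg.Lib.ClassSize.RankThree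

universe u

variable {G : Type u} [Group G] [Finite G]

/-- The quotient of a group with three class sizes by its radical, with the image of the
involution. -/
structure Red (G : Type u) [Group G] [Finite G] (a : ℕ) (z : G) : Prop where
  aodd : ¬ 2 ∣ a
  a1 : 1 < a
  ns : ¬ Group.IsSolvable G
  zo : orderOf z = 2
  za : cs z = a
  nrm : ∀ K : Subgroup G, K.Normal → ((Nat.card K).Coprime a ∨ Group.IsSolvable K) → K = ⊥
  cA : ∀ u : G, ¬ (orderOf u).Coprime a → Nat.card (centralizer ({u} : Set G)) = a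
  abel : (∀ u : G, ¬ (orderOf u).Coprime a → ∀ v ∈ centralizer ({u} : Set G),
    ∀ w ∈ centralizer ({u} : Set G), Commute v w) ∨ ∃ q k : ℕ, q.Prime ∧ a = q ^ k

/-- The greatest normal subgroup of order prime to `n` of a normal subgroup is normal in `G`. -/
theorem eq_bot_of_normal_in {L : Subgroup G} [L.Normal] {n : ℕ}
    (hG : ∀ K : Subgroup G, K.Normal → (Nat.card K).Coprime n → K = ⊥)
    (N : Subgroup L) [N.Normal] (hN : (Nat.card N).Coprime n) : N = ⊥ := by
  haveI : Nonempty {K : Subgroup L // K.Normal ∧ (Nat.card K).Coprime n} :=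
    ⟨⟨⊥, inferInstance, by rw [card_bot]; exact Nat.coprime_one_left n⟩⟩
  obtain ⟨⟨R, hR, hRc⟩, hmax⟩ := Finite.exists_max
    fun K : {K : Subgroup L // K.Normal ∧ (Nat.card K).Coprime n} => Nat.card K.1
  haveI := hR
  have hle : ∀ K : Subgroup L, K.Normal → (Nat.card K).Coprime n → K ≤ R := fun K hK hKc => by
    haveI := hK
    have h := hmax ⟨R ⊔ K, inferInstance,
      Nat.Coprime.coprime_dvd_left card_sup_dvd (Nat.Coprime.mul_left hRc hKc)⟩
    exact (eq_of_le_of_card_ge (le_sup_left : R ≤ R ⊔ K) h).symm ▸ le_sup_right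
  haveI : R.Characteristic := characteristic_iff_map_le.2 fun φ =>
    hle _ (hR.map _ φ.surjective) (by rw [card_map_of_injective (f := φ.toMonoidHom) φ.injective]; exact hRc)
  have hb := hG (R.map L.subtype) inferInstance (by rwa [card_map_of_injective L.subtype_injective])
  rw [map_eq_bot_iff_of_injective _ L.subtype_injective] at hb
  exact le_bot_iff.1 (hb ▸ hle N inferInstance hN)

theorem relIndex_sup_eq' (B L : Subgroup G) [L.Normal] : B.relIndex (L ⊔ B) = B.relIndex L := by
  have h1 := relIndex_mul_relIndex ⊥ L (L ⊔ B) bot_le le_sup_left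
  have h2 := relIndex_mul_relIndex ⊥ B (L ⊔ B) bot_le le_sup_right
  have h3 := relIndex_mul_relIndex ⊥ (L ⊓ B) B bot_le inf_le_right
  have h4 := relIndex_mul_relIndex ⊥ (L ⊓ B) L bot_le inf_le_left
  simp only [relIndex_bot_left, relIndex_sup_left, inf_relIndex_left, inf_relIndex_right]
    at h1 h2 h3 h4
  rw [← h1, ← h4, ← h3] at h2
  refine Nat.eq_of_mul_eq_mul_left
    (show 0 < Nat.card (L ⊓ B : Subgroup G) * L.relIndex B from ?_) (h2.trans (by ring))
  rw [h3]; exact Nat.card_pos

namespace Red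

variable {a : ℕ} {z : G} (X : Red G a z)
include X

theorem not_coprime_of_prime {q : ℕ} (hq : q.Prime) (hqa : q ∣ a) {u : G} (ho : orderOf u = q) :
    ¬ (orderOf u).Coprime a :=
  Nat.Prime.not_coprime_iff_dvd.2 ⟨q, hq, ho ▸ dvd_rfl, hqa⟩

theorem sep {u v : G} (hu : ¬ (orderOf u).Coprime a) (h : Commute v u) : orderOf v ∣ a :=
  X.cA u hu ▸ Subgroup.orderOf_dvd_natCard _ (mem_cent.2 h)

theorem not_commute_inv {u t : G} (hu : ¬ (orderOf u).Coprime a) (ht : orderOf t = 2) :
    ¬ Commute t u := fun h => X.aodd (ht ▸ X.sep hu h)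

theorem copB : (Nat.card (centralizer ({z} : Set G))).Coprime a :=
  coprime_of_no_elt fun _ hq hqa _ hu ho =>
    X.not_commute_inv (X.not_coprime_of_prime hq hqa ho) X.zo (mem_cent.1 hu).symm

theorem card_eq : Nat.card (centralizer ({z} : Set G)) * a = Nat.card G := by
  conv_lhs => rw [← X.za]
  exact card_cent_mul z

theorem nrm_two (K : Subgroup G) (hK : K.Normal) (h : (Nat.card K).Coprime 2) : K = ⊥ :=
  X.nrm K hK (.inr (Cfsg.Agent.PF.isSolvable_of_odd _ (Nat.Coprime.odd_of_right h)))

/-- A nontrivial normal subgroup of a normal subgroup has an element of prime order dividing `a`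
and an involution. -/
theorem exists_elts {L : Subgroup G} [L.Normal] (N : Subgroup L) [N.Normal] (hN : N ≠ ⊥) :
    (∃ q : ℕ, q.Prime ∧ q ∣ a ∧ ∃ u ∈ N, orderOf (u : G) = q) ∧
      ∃ t ∈ N, orderOf (t : G) = 2 := by
  constructor
  · by_contra hno
    push Not at hno
    exact hN (eq_bot_of_normal_in (fun K hK h => X.nrm K hK (.inl h)) N
      (coprime_of_no_elt fun q hq hqa u hu ho => hno q hq hqa u hu (by rwa [Subgroup.orderOf_coe])))
  · by_contra hno
    push Not at hno
    refine hN (eq_bot_of_normal_in X.nrm_two N (coprime_of_no_elt fun q hq hq2 u hu ho => ?_))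
    exact hno u hu (by rw [Subgroup.orderOf_coe, ho, (Nat.prime_dvd_prime_iff_eq hq Nat.prime_two).1 hq2])

theorem exists_simple_normal : ∃ L : Subgroup G, L.Normal ∧ L ≠ ⊥ ∧ IsSimpleGroup L ∧
    centralizer (L : Set G) = ⊥ := by
  have htop : (⊤ : Subgroup G) ≠ ⊥ := fun e => X.ns (by
    haveI : Subsingleton G := subsingleton_iff.1 (subsingleton_of_bot_eq_top e.symm)
    exact Group.isSolvable_of_comm fun _ _ => Subsingleton.elim _ _)
  obtain ⟨L, -, hL, hLb, hLmin⟩ :=
    Cfsg.Lib.Coprime.exists_minimal_normal (inferInstance : (⊤ : Subgroup G).Normal) htop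
  haveI := hL
  haveI : Nontrivial L := (nontrivial_iff_ne_bot L).2 hLb
  -- two nontrivial normal subgroups of `L` meet nontrivially
  have hmeet : ∀ N₁ N₂ : Subgroup L, N₁.Normal → N₂.Normal → N₁ ≠ ⊥ → N₂ ≠ ⊥ → N₁ ⊓ N₂ ≠ ⊥ := by
    intro N₁ N₂ h1 h2 hb1 hb2 hdis
    haveI := h1
    haveI := h2
    obtain ⟨⟨q, hq, hqa, u, hu, huo⟩, -⟩ := X.exists_elts N₁ hb1
    obtain ⟨-, t, ht, hto⟩ := X.exists_elts N₂ hb2
    exact X.not_commute_inv (X.not_coprime_of_prime hq hqa huo) hto
      ((commute_of_normal_of_disjoint N₁ N₂ h1 h2 (disjoint_iff.2 hdis) u t hu ht).symm.map L.subtype)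
  obtain ⟨N, -, hN, hNb, hNmin⟩ := Cfsg.Lib.Coprime.exists_minimal_normal
    (inferInstance : (⊤ : Subgroup L).Normal) top_ne_bot
  haveI := hN
  have hleast : ∀ K : Subgroup L, K.Normal → K ≠ ⊥ → N ≤ K := fun K hK hKb => by
    haveI := hK
    rcases hNmin (N ⊓ K) inferInstance inf_le_left with e | e
    · exact absurd e (hmeet N K hN hK hNb hKb)
    · exact e ▸ inf_le_right
  haveI : N.Characteristic := characteristic_iff_map_le.2 fun φ => by
    have h : N ≤ N.map φ.toMonoidHom := hleast _ (hN.map _ φ.surjective)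
      (by rwa [Ne, map_eq_bot_iff_of_injective _ φ.injective])
    exact (eq_of_le_of_card_ge h
      (card_map_of_injective (f := φ.toMonoidHom) φ.injective).le).ge
  have hNtop : N = ⊤ := by
    rcases hLmin (N.map L.subtype) inferInstance (map_subtype_le N) with e | e
    · rw [map_eq_bot_iff_of_injective _ L.subtype_injective] at e
      exact absurd e hNb
    · refine map_injective L.subtype_injective ?_
      rw [e, ← MonoidHom.range_eq_map, range_subtype]
  refine ⟨L, hL, hLb, ⟨fun K hK => (eq_or_ne K ⊥).imp_right fun hKb =>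
    top_le_iff.1 (hNtop ▸ hleast K hK hKb)⟩, X.nrm _ inferInstance (.inl ?_)⟩
  refine coprime_of_no_elt fun q hq hqa u hu ho => ?_
  obtain ⟨-, t, -, hto⟩ := X.exists_elts (L := L) ⊤ top_ne_bot
  exact X.not_commute_inv (X.not_coprime_of_prime hq hqa ho) hto
    (mem_centralizer_iff.1 hu t t.2)

/-- The factorisation `H = L C(z)` and a contradiction from an abelian Hall subgroup in it. -/
theorem false_of_abelian {L : Subgroup G} [L.Normal] [IsSimpleGroup L] (hLb : L ≠ ⊥)
    (hCL : centralizer (L : Set G) = ⊥) {A : Subgroup G}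
    (hAH : A ≤ L ⊔ centralizer ({z} : Set G))
    (hAcard : Nat.card A = (centralizer ({z} : Set G)).relIndex L)
    (hAdvd : Nat.card A ∣ a) (hAab : ∀ v ∈ A, ∀ w ∈ A, Commute v w) : False := by
  haveI := Fact.mk Nat.prime_two
  set B := centralizer ({z} : Set G) with hB
  set H := L ⊔ B with hH
  have hzB : z ∈ B := mem_cent.2 (Commute.refl z)
  have hBH : B ≤ H := le_sup_right
  have hrel : B.relIndex H = B.relIndex L := relIndex_sup_eq' B L
  have hcardH : Nat.card H = Nat.card B * Nat.card A := by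
    have h2 := relIndex_mul_relIndex ⊥ B H bot_le hBH
    rw [relIndex_bot_left, relIndex_bot_left, hrel, ← hAcard] at h2
    exact h2.symm
  -- elements of order dividing `a` lie in `L`
  set L' := L.subgroupOf H with hL'
  haveI : L'.Normal := by rw [hL']; infer_instance
  have hinL : ∀ x : H, orderOf x ∣ a → x ∈ L' := fun x hx => by
    rw [← QuotientGroup.eq_one_iff]
    refine orderOf_eq_one_iff.1 (Nat.eq_one_of_dvd_coprimes X.copB ?_
      ((orderOf_map_dvd (QuotientGroup.mk' L') x).trans hx))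
    refine (_root_.orderOf_dvd_natCard _).trans ?_
    rw [← index_eq_card]
    change L.relIndex H ∣ Nat.card B
    rw [hH, relIndex_sup_left]
    exact relIndex_dvd_card _ _
  set A' := A.subgroupOf H with hA'
  have hA'card : Nat.card A' = Nat.card A := Nat.card_congr (subgroupOfEquivOfLe hAH).toEquiv
  have hA'L : A' ≤ L' := fun x hx => hinL x
    ((by rw [← Subgroup.orderOf_coe]; exact Subgroup.orderOf_dvd_natCard A hx :
      orderOf x ∣ Nat.card A).trans hAdvd)
  have hC : ∀ x ∈ A', x ≠ 1 → centralizer ({x} : Set H) = A' := by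
    intro x hx hx1
    have hle : A' ≤ centralizer ({x} : Set H) := fun y hy =>
      mem_cent.2 (Subtype.ext (hAab _ hy _ hx).eq)
    refine (eq_of_le_of_card hle ?_).symm
    have hxnc : ¬ (orderOf (x : G)).Coprime a := fun hc => hx1 (Subtype.ext
      (orderOf_eq_one_iff.1 (Nat.eq_one_of_dvd_coprimes hc dvd_rfl
        ((Subgroup.orderOf_dvd_natCard A hx).trans hAdvd))))
    have h1 : Nat.card (centralizer ({x} : Set H)) ∣ a := by
      rw [← card_map_of_injective H.subtype_injective, ← X.cA _ hxnc]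
      refine card_dvd_of_le ?_
      rintro _ ⟨y, hy, rfl⟩
      exact mem_cent.2 (congrArg Subtype.val (mem_cent.1 hy).eq)
    rw [hA'card]
    exact ((X.copB.coprime_dvd_right h1).symm).dvd_of_dvd_mul_left
      (hcardH ▸ card_subgroup_dvd_card (centralizer ({x} : Set H)))
  set z' : H := ⟨z, hBH hzB⟩ with hz'
  have hCz : centralizer ({z'} : Set H) = B.subgroupOf H := by
    ext y
    rw [mem_subgroupOf, hB, mem_cent, mem_cent]
    exact ⟨fun hy => congrArg Subtype.val hy.eq, fun hy => Subtype.ext hy.eq⟩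
  have hLs : ∀ K : Subgroup H, K.Normal → ¬ L' ≤ K → K = ⊥ := by
    intro K hK hne
    set N := (K.map H.subtype).subgroupOf L with hN
    haveI : N.Normal := ⟨fun x hx g => by
      obtain ⟨k, hk, hkx⟩ := hx
      refine ⟨⟨g, mem_sup_left g.2⟩ * k * ⟨g, mem_sup_left g.2⟩⁻¹, hK.conj_mem k hk _, ?_⟩
      simp only [map_mul, map_inv, hkx]
      rfl⟩
    rcases IsSimpleGroup.eq_bot_or_eq_top_of_normal N inferInstance with e | e
    · have hdis : Disjoint K L' := by
        rw [disjoint_iff, eq_bot_iff_forall]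
        rintro x ⟨hxK, hxL⟩
        have h1 : (⟨x, hxL⟩ : L) ∈ N := ⟨x, hxK, rfl⟩
        rw [e, mem_bot] at h1
        exact Subtype.ext (show (x : G) = ((1 : L) : G) from congrArg Subtype.val h1)
      rw [eq_bot_iff_forall]
      intro k hk
      refine Subtype.ext (mem_bot.1 (hCL ▸ mem_centralizer_iff.2 fun l hl => ?_))
      exact congrArg Subtype.val (commute_of_normal_of_disjoint K L' hK inferInstance hdis k
        ⟨l, mem_sup_left hl⟩ hk hl).eq.symm
    · refine absurd (fun x hx => ?_) hne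
      obtain ⟨k, hk, hkx⟩ := (e ▸ mem_top (⟨x, hx⟩ : L) : (⟨x, hx⟩ : L) ∈ N)
      rwa [show x = k from Subtype.ext hkx.symm]
  have hzc : z' ∉ center H := fun hc => by
    have : z ∈ centralizer (L : Set G) := mem_centralizer_iff.2 fun l hl =>
      congrArg Subtype.val (Subgroup.mem_center_iff.1 hc ⟨l, mem_sup_left hl⟩)
    rw [hCL, mem_bot] at this
    exact ne_one_of_prime Nat.prime_two X.zo this
  have hidx : cs z' = Nat.card A' := by
    show (centralizer ({z'} : Set H)).index = _
    rw [hCz, hA'card, hAcard, ← hrel]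
    rfl
  have hiso : Cfsg.IsIsolatedInvolution z' := ⟨by rw [← Subgroup.orderOf_coe]; exact X.zo,
    isolated_of_factor hA'L hLs hC hzc hidx (by
      rw [hCz, Nat.card_congr (subgroupOfEquivOfLe hBH).toEquiv, hA'card]
      exact (X.copB.coprime_dvd_right hAdvd).symm)⟩
  have hcore : Cfsg.pPrimeCore 2 H = ⊥ := by
    refine hLs _ inferInstance fun hle => ?_
    obtain ⟨-, t, -, hto⟩ := X.exists_elts (L := L) ⊤ (by
      haveI : Nontrivial L := (nontrivial_iff_ne_bot L).2 hLb
      exact top_ne_bot)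
    have h2 := Subgroup.orderOf_dvd_natCard (Cfsg.pPrimeCore 2 H)
      (hle (show (⟨(t : G), mem_sup_left t.2⟩ : H) ∈ L' from t.2))
    rw [Subgroup.orderOf_mk, hto] at h2
    exact Nat.not_even_iff_odd.2 Cfsg.Lib.ZStarApps.odd_card_pPrimeCore (even_iff_two_dvd.2 h2)
  refine hzc (Subgroup.mem_center_iff.2 fun g => ?_)
  have := Cfsg.Lib.ZStarApps.zstarProp hiso g
  rw [hcore, mem_bot] at this
  calc g * z' = (z' * g * z'⁻¹ * g⁻¹) * (g * z') := by rw [this, one_mul]
    _ = z' * g := by group

theorem contradiction : False := by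
  haveI := Fact.mk Nat.prime_two
  obtain ⟨L, hL, hLb, hLs, hCL⟩ := X.exists_simple_normal
  haveI := hL
  haveI := hLs
  set B := centralizer ({z} : Set G) with hB
  have hBidx : B.index = a := X.za
  have hreld : B.relIndex L ∣ a := by
    rw [← relIndex_sup_eq' B L, ← hBidx]
    exact relIndex_dvd_index_of_le le_sup_right
  rcases X.abel with hab | ⟨q, k, hq, hak⟩
  · obtain ⟨⟨q, hq, hqa, u, -, huo⟩, -⟩ := X.exists_elts (L := L) ⊤ top_ne_bot
    have hunc := X.not_coprime_of_prime hq hqa huo
    set C := centralizer ({(u : G)} : Set G) with hC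
    set H := L ⊔ B with hH
    have hcC : Nat.card C = a := X.cA _ hunc
    have hCidx : C.index = Nat.card B := by
      have h1 := C.card_mul_index
      rw [hcC, ← X.card_eq, mul_comm (Nat.card B)] at h1
      exact Nat.eq_of_mul_eq_mul_left (by have := X.a1; omega) h1
    have hHidx : H.index ∣ a := hBidx ▸ index_dvd_of_le le_sup_right
    have hinf := index_inf_of_coprime (A := C) (B := H)
      (by rw [hCidx]; exact X.copB.coprime_dvd_right hHidx)
    refine X.false_of_abelian hLb hCL (A := C ⊓ H) inf_le_right ?_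
      ((card_dvd_of_le inf_le_left).trans hcC.dvd) fun v hv w hw => hab u hunc v hv.1 w hw.1
    have h2 := relIndex_mul_relIndex B H ⊤ le_sup_right le_top
    rw [relIndex_top_right, relIndex_top_right, hBidx] at h2
    have h3 := (C ⊓ H).card_mul_index
    rw [hinf, hCidx, ← X.card_eq, ← h2] at h3
    have hpos : 0 < Nat.card B * H.index :=
      Nat.mul_pos Nat.card_pos (Nat.pos_of_ne_zero index_ne_zero_of_finite)
    have h4 : Nat.card (C ⊓ H : Subgroup G) = B.relIndex H :=
      Nat.eq_of_mul_eq_mul_right hpos (by rw [h3]; ring)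
    rw [h4]
    exact relIndex_sup_eq' B L
  · haveI := Fact.mk hq
    obtain ⟨i, -, hi⟩ := (Nat.dvd_prime_pow hq).1 (hak ▸ hreld)
    have hk0 : k ≠ 0 := fun e => by have := X.a1; rw [hak, e, pow_zero] at this; omega
    have hqa : q ∣ a := hak ▸ dvd_pow_self q hk0
    have hqB : ¬ q ∣ Nat.card B := fun h => hq.ne_one (Nat.eq_one_of_dvd_coprimes X.copB h hqa)
    obtain ⟨P⟩ : Nonempty (Sylow q L) := inferInstance
    set P' := (P : Subgroup L).map L.subtype with hP'
    have hP'L : P' ≤ L := map_subtype_le _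
    have hP'card : Nat.card P' = q ^ i := by
      rw [hP', card_map_of_injective L.subtype_injective, P.card_eq_multiplicity]
      congr 1
      have h4 := relIndex_mul_relIndex ⊥ (L ⊓ B) L bot_le inf_le_left
      rw [relIndex_bot_left, relIndex_bot_left, inf_relIndex_left] at h4
      change Nat.card (L ⊓ B : Subgroup G) * B.relIndex L = Nat.card L at h4
      rw [← h4, hi, Nat.factorization_mul Nat.card_pos.ne' (pow_ne_zero _ hq.ne_zero),
        Finsupp.add_apply, Nat.factorization_eq_zero_of_not_dvd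
          fun h => hqB (h.trans (card_dvd_of_le inf_le_right)), zero_add,
        Nat.factorization_pow, Finsupp.smul_apply, hq.factorization_self, smul_eq_mul, mul_one]
    have hP'p : IsPGroup q P' := P.2.map _
    by_cases hcomm : ∀ v ∈ P', ∀ w ∈ P', Commute v w
    · exact X.false_of_abelian hLb hCL (hP'L.trans le_sup_left) (hP'card.trans hi.symm)
        (by rw [hP'card, ← hi]; exact hreld) hcomm
    set T := normalizer (P' : Set G) with hT
    have hTodd : ¬ 2 ∣ Nat.card T := by
      intro h2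
      obtain ⟨⟨t, ht⟩, hto⟩ := exists_prime_orderOf_dvd_card' (G := T) 2 h2
      set K := P'.subgroupOf T with hK
      haveI : K.Normal := normal_in_normalizer
      have hfix : ∀ v ∈ K, Commute (⟨t, ht⟩ : T) v → v = 1 := fun v hv hc => by
        by_contra hv1
        obtain ⟨j, hj⟩ := IsPGroup.iff_orderOf.1 hP'p ⟨(v : G), mem_subgroupOf.1 hv⟩
        rw [Subgroup.orderOf_mk] at hj
        have hj0 : j ≠ 0 := fun e => hv1 (Subtype.ext (orderOf_eq_one_iff.1 (by
          rw [hj, e, pow_zero])))
        refine X.not_commute_inv (u := (v : G)) (t := t)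
          (Nat.Prime.not_coprime_iff_dvd.2 ⟨q, hq, hj ▸ dvd_pow_self q hj0, hqa⟩) ?_ (hc.map T.subtype)
        rwa [Subgroup.orderOf_mk] at hto
      refine hcomm fun v hv w hw => ?_
      have hv' : (⟨v, le_normalizer hv⟩ : T) ∈ K := hv
      have hw' : (⟨w, le_normalizer hw⟩ : T) ∈ K := hw
      have h1 := inverts_of_fpf hto hfix (mul_mem hv' hw')
      have e1 := inverts_of_fpf hto hfix hv'
      have e2 := inverts_of_fpf hto hfix hw'
      generalize (⟨t, ht⟩ : T) = τ at h1 e1 e2
      rw [mul_inv_rev, ← e1, ← e2] at h1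
      have h2 : τ * (⟨v, le_normalizer hv⟩ * ⟨w, le_normalizer hw⟩) * τ⁻¹ =
          τ * ((⟨w, le_normalizer hw⟩ : T) * ⟨v, le_normalizer hv⟩) * τ⁻¹ := h1.trans (by group)
      exact congrArg Subtype.val (mul_left_cancel (mul_right_cancel h2))
    have hzL : z ∈ L := by
      have hfr := Sylow.normalizer_sup_eq_top P
      rw [← hP', sup_comm] at hfr
      rw [← QuotientGroup.eq_one_iff]
      have hsurj : Function.Surjective ((QuotientGroup.mk' L).comp T.subtype) := fun x => by
        obtain ⟨g, rfl⟩ := QuotientGroup.mk'_surjective L x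
        obtain ⟨v, hv, w, hw, rfl⟩ := mem_sup_of_normal_left.1 (hfr ▸ mem_top g : g ∈ L ⊔ T)
        exact ⟨⟨w, hw⟩, by simp [(QuotientGroup.eq_one_iff v).2 hv]⟩
      refine orderOf_eq_one_iff.1 (Nat.eq_one_of_dvd_coprimes
        ((Nat.prime_two.coprime_iff_not_dvd).2 hTodd)
        (X.zo ▸ orderOf_map_dvd (QuotientGroup.mk' L) z)
        ((_root_.orderOf_dvd_natCard _).trans (card_dvd_of_surjective _ hsurj)))
    have hcls : Nat.card {y : L // IsConj (⟨z, hzL⟩ : L) y} = q ^ i := by
      rw [← hi, show B.relIndex L = cs (⟨z, hzL⟩ : L) from ?_, ← card_cls]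
      · exact Nat.card_congr (Equiv.subtypeEquivRight fun y => by
          simp only [isConj_iff, cls, Set.mem_range])
      · rw [relIndex]
        congr 1
        ext y
        rw [mem_subgroupOf, hB, mem_cent, mem_cent]
        exact ⟨fun hy => Subtype.ext hy.eq, fun hy => congrArg Subtype.val hy.eq⟩
    have hpr := Cfsg.Lib.Chars.prime_card_of_class_prime_pow q i hq (⟨z, hzL⟩ : L)
      (fun e => ne_one_of_prime Nat.prime_two X.zo (congrArg Subtype.val e)) hcls
    obtain ⟨⟨r, hr, hra, u, -, huo⟩, t, -, hto⟩ := X.exists_elts (L := L) ⊤ top_ne_bot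
    have h2 : 2 = Nat.card L := (Nat.prime_dvd_prime_iff_eq Nat.prime_two hpr).1
      (hto ▸ Subgroup.orderOf_dvd_natCard L t.2)
    have h3 : r = Nat.card L := (Nat.prime_dvd_prime_iff_eq hr hpr).1
      (huo ▸ Subgroup.orderOf_dvd_natCard L u.2)
    exact X.aodd (by rw [h2, ← h3]; exact hra)

end Red

end Cfsg.Lib.ThreeSizes
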