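import Cfsg.Agent.ThreeSizes.InRadical
import Cfsg.Agent.ThreeSizes.Reduced
import Cfsg.Agent.S2202
import Cfsg.Agent.CyclicInter.Main
import Cfsg.Agent.BenderSE.Ring2.Solvable
import Cfsg.Agent.PrimePowerOrders.Arith
import Cfsg.Agent.Classical.SL
import Cfsg.Agent.ClassSize.RankThree.Main

/-!
# Groups with trivial centre and at most three class sizes other than one
-/

set_option autoImplicit false
set_option linter.unusedSectionVars false
set_option linter.style.haveILetI false

namespace Cfsg.Lib.ThreeSizes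

open Subgroup Cfsg.Lib.ClassSize Cfsg.Lib.ClassSize.RankThree
open scoped MatrixGroups

universe u

variable {G : Type u} [Group G] [Finite G]

namespace Inv

variable {a b c : ℕ} {z : G} (I : Inv G a b c z)
include I

theorem reduce {R : Subgroup G} [R.Normal] (hRc : (Nat.card R).Coprime a)
    (hRn : Group.IsNilpotent R)
    (hmax : ∀ K : Subgroup G, K.Normal → ((Nat.card K).Coprime a ∨ Group.IsSolvable K) → K ≤ R) :
    Red (G ⧸ R) a (QuotientGroup.mk' R z) := by
  have hzR := I.not_mem_rad hRc hRn hmax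
  set π := QuotientGroup.mk' R with hπ
  have hπs : Function.Surjective π := QuotientGroup.mk'_surjective R
  haveI := hRn
  have hcomap : ∀ K : Subgroup (G ⧸ R), Nat.card (K.comap π) = Nat.card K * Nat.card R := by
    intro K
    have h1 := (K.comap π).card_mul_index
    rw [index_comap_of_surjective _ hπs, card_eq_card_quotient_mul_card_subgroup R,
      ← K.card_mul_index] at h1
    exact Nat.eq_of_mul_eq_mul_right (Nat.pos_of_ne_zero K.index_ne_zero_of_finite)
      (h1.trans (by ring))
  have hcA : ∀ u : G ⧸ R, ¬ (orderOf u).Coprime a → ∀ g : G, π g = u →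
      cs g = c ∧ centralizer ({u} : Set (G ⧸ R)) = (centralizer ({g} : Set G)).map π := by
    intro u hu g hg
    subst hg
    have hgc : cs g = c := I.toData.cs_c fun hc => hu (hc.coprime_dvd_left (orderOf_map_dvd π g))
    refine ⟨hgc, le_antisymm (fun x hx => ?_) ?_⟩
    · obtain ⟨k, rfl⟩ := hπs x
      let f : R → R := fun s => ⟨(s : G) * g * (s : G)⁻¹ * g⁻¹, by
        rw [mul_assoc (s : G) g, mul_assoc (s : G)]
        exact mul_mem s.2 (by
          simpa [mul_assoc] using (inferInstance : R.Normal).conj_mem _ (inv_mem s.2) g)⟩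
      have hf : Function.Injective f := fun s s' e => by
        have e1 : (s : G) * g * (s : G)⁻¹ = s' * g * (s' : G)⁻¹ :=
          mul_right_cancel (congrArg Subtype.val e)
        have e2 : Commute ((s' : G)⁻¹ * s) g := mul_inv_eq_iff_eq_mul.1 (by
          calc (s' : G)⁻¹ * s * g * ((s' : G)⁻¹ * s)⁻¹
              = (s' : G)⁻¹ * ((s : G) * g * (s : G)⁻¹) * s' := by group
            _ = g := by rw [e1]; group)
        exact Subtype.ext (inv_mul_eq_one.1
          (I.eq_one_of_commute_c hRc hgc (mul_mem (inv_mem s'.2) s.2) e2)).symm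
      have hk : k * g * k⁻¹ * g⁻¹ ∈ R := by
        rw [← QuotientGroup.eq_one_iff]
        show π (k * g * k⁻¹ * g⁻¹) = 1
        rw [map_mul, map_mul, map_mul, map_inv, map_inv, (mem_cent.1 hx).eq]
        group
      obtain ⟨s, hs⟩ := (Finite.injective_iff_surjective.1 hf) ⟨_, hk⟩
      have hs' : (s : G) * g * (s : G)⁻¹ = k * g * k⁻¹ :=
        mul_right_cancel (congrArg Subtype.val hs)
      refine ⟨(s : G)⁻¹ * k, mem_cent.2 (mul_inv_eq_iff_eq_mul.1 ?_), ?_⟩
      · calc (s : G)⁻¹ * k * g * ((s : G)⁻¹ * k)⁻¹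
            = (s : G)⁻¹ * (k * g * k⁻¹) * s := by group
          _ = g := by rw [← hs']; group
      · rw [map_mul, show π (s : G)⁻¹ = 1 from (QuotientGroup.eq_one_iff _).2 (inv_mem s.2), one_mul]
    · rintro _ ⟨k, hk, rfl⟩
      exact mem_cent.2 ((mem_cent.1 hk).map π)
  have hcard : ∀ u : G ⧸ R, ¬ (orderOf u).Coprime a →
      Nat.card (centralizer ({u} : Set (G ⧸ R))) = a := by
    intro u hu
    obtain ⟨g, rfl⟩ := hπs u
    obtain ⟨hgc, he⟩ := hcA _ hu g rfl
    have hinj : Function.Injective (π.comp (centralizer ({g} : Set G)).subtype) := by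
      rw [← MonoidHom.ker_eq_bot_iff, eq_bot_iff_forall]
      intro x hx
      exact Subtype.ext (I.eq_one_of_commute_c hRc hgc
        ((QuotientGroup.eq_one_iff _).1 hx) (mem_cent.1 x.2))
    have hr : (π.comp (centralizer ({g} : Set G)).subtype).range =
        (centralizer ({g} : Set G)).map π := by
      rw [MonoidHom.range_comp, range_subtype]
    rw [he, ← hr, ← I.toData.card_of_c hgc]
    exact (Nat.card_congr (MonoidHom.ofInjective hinj).toEquiv).symm
  have hzo : orderOf (π z) = 2 := by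
    refine ((Nat.dvd_prime Nat.prime_two).1 (I.zo ▸ orderOf_map_dvd π z)).resolve_left fun e => ?_
    rw [orderOf_eq_one_iff] at e
    exact hzR ((QuotientGroup.eq_one_iff z).1 e)
  have hza : cs (π z) = a := by
    refine Nat.dvd_antisymm ?_ ?_
    · have h1 : (centralizer ({z} : Set G)).map π ≤ centralizer ({π z} : Set (G ⧸ R)) := by
        rintro _ ⟨k, hk, rfl⟩
        exact mem_cent.2 ((mem_cent.1 hk).map π)
      have h2 := (index_dvd_of_le h1).trans (index_map_dvd (centralizer ({z} : Set G)) hπs)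
      exact h2.trans (dvd_of_eq I.za)
    · have hC : (Nat.card (centralizer ({π z} : Set (G ⧸ R)))).Coprime a :=
        coprime_of_no_elt fun q hq hqa u hu ho => by
          have hu' : ¬ (orderOf u).Coprime a :=
            Nat.Prime.not_coprime_iff_dvd.2 ⟨q, hq, ho ▸ dvd_rfl, hqa⟩
          have h := Subgroup.orderOf_dvd_natCard (centralizer ({u} : Set (G ⧸ R)))
            (mem_cent.2 (mem_cent.1 hu).symm)
          rw [hcard u hu', hzo] at h
          exact I.a_odd h
      refine hC.symm.dvd_of_dvd_mul_left (hRc.symm.dvd_of_dvd_mul_right ?_)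
      rw [card_cent_mul, ← card_eq_card_quotient_mul_card_subgroup R]
      exact I.toData.a_dvd
  refine ⟨I.a_odd, I.toData.a_gt, fun hs => I.ns ?_, hzo, hza, fun K hK hor => ?_, hcard, ?_⟩
  · exact Group.isSolvable_of_ker_le_range R.subtype π
      (by rw [hπ, QuotientGroup.ker_mk', range_subtype])
  · have hle : K.comap π ≤ R := by
      refine hmax _ (hK.comap π) (hor.imp (fun h => ?_) fun h => ?_)
      · rw [hcomap]
        exact Nat.Coprime.mul_left h hRc
      · haveI := h
        let f : K.comap π →* K :=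
          { toFun := fun x => ⟨π (x : G), x.2⟩
            map_one' := Subtype.ext (map_one π)
            map_mul' := fun x y => Subtype.ext (map_mul π (x : G) (y : G)) }
        let g : R →* K.comap π := inclusion fun x hx => by
          rw [mem_comap, show π x = 1 from (QuotientGroup.eq_one_iff _).2 hx]
          exact one_mem _
        refine Group.isSolvable_of_ker_le_range g f fun x hx => ?_
        have h1 : π (x : G) = 1 := congrArg Subtype.val hx
        exact ⟨⟨x, (QuotientGroup.eq_one_iff _).1 h1⟩, rfl⟩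
    rw [← map_comap_eq_self_of_surjective hπs K, Subgroup.map_eq_bot_iff, hπ, QuotientGroup.ker_mk']
    exact hle
  · refine I.toData.abelian_or_primePow.imp_left fun hab u hu v hv w hw => ?_
    obtain ⟨g, rfl⟩ := hπs u
    obtain ⟨hgc, he⟩ := hcA _ hu g rfl
    rw [he] at hv hw
    obtain ⟨v', hv', rfl⟩ := hv
    obtain ⟨w', hw', rfl⟩ := hw
    exact (hab g hgc v' hv' w' hw').map π

theorem false : False := by
  obtain ⟨R, hR, hRc, hRn, hmax⟩ := I.exists_radical
  haveI := hR
  exact (I.reduce hRc hRn hmax).contradiction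

end Inv

/-- Involution centralisers are abelian. -/
theorem Data.comm_cent {a b c : ℕ} (D : Data G a b c) {t : G} (ht : orderOf t = 2) :
    ∀ u ∈ centralizer ({t} : Set G), ∀ v ∈ centralizer ({t} : Set G), Commute u v := by
  haveI := Fact.mk Nat.prime_two
  have ht1 : t ≠ 1 := ne_one_of_prime Nat.prime_two ht
  by_cases h2a : 2 ∣ a
  · have htc := D.cs_c_of_prime Nat.prime_two h2a ht
    rcases D.abelian_or_primePow with h | ⟨q, k, hq, ha⟩
    · exact h t htc
    · obtain rfl : 2 = q := (Nat.prime_dvd_prime_iff_eq Nat.prime_two hq).1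
        (Nat.prime_two.dvd_of_dvd_pow (ha ▸ h2a))
      have hp : IsPGroup 2 (centralizer ({t} : Set G)) :=
        IsPGroup.of_card (n := k) (ha ▸ D.card_of_c htc)
      refine two_comm hp fun x hx y hy hx1 hy1 => ?_
      rw [D.cs_c_of_commute htc hx1 (mem_cent.1 hx), D.cs_c_of_commute htc hy1 (mem_cent.1 hy)]
  · by_cases hex : ∃ s : G, PEl 2 s ∧ s ≠ 1 ∧ cs s = a
    · exfalso
      obtain ⟨s, hs, hs1, hsa⟩ := hex
      obtain ⟨z, hz, hzo⟩ := exists_two_pow hs hs1
      exact Inv.false (z := z)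
        ⟨D, hzo, D.part_a hz (ne_one_of_prime Nat.prime_two hzo) hsa⟩
    · have hb : ∀ s : G, PEl 2 s → s ≠ 1 → cs s = b := by
        intro s hs hs1
        rcases D.vals s hs1 with e | e | e
        · exact absurd ⟨s, hs, hs1, e⟩ hex
        · exact e
        · obtain ⟨k, hk⟩ := hs
          have hk0 : k ≠ 0 := fun e' => hs1 (orderOf_eq_one_iff.1 (by rw [hk, e', pow_zero]))
          exact absurd ((hk ▸ dvd_pow_self 2 hk0).trans (D.order_dvd_a_of_c e)) h2a
      refine comm_of_abelian_sylow Nat.prime_two (pel_of_prime ht) ht1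
        (D.minCent_b (hb t (pel_of_prime ht) ht1)) fun Q hQ => two_comm hQ fun u hu v hv hu1 hv1 => ?_
      obtain ⟨k, hk⟩ := IsPGroup.iff_orderOf.1 hQ ⟨u, hu⟩
      obtain ⟨l, hl⟩ := IsPGroup.iff_orderOf.1 hQ ⟨v, hv⟩
      rw [Subgroup.orderOf_mk] at hk hl
      rw [hb u ⟨k, hk⟩ hu1, hb v ⟨l, hl⟩ hv1]

theorem comm_cent_of_three (hns : ¬ Group.IsSolvable G) (hZ : center G = ⊥)
    (h : Nat.card {n : ℕ | 1 < n ∧ ∃ x : G, (centralizer ({x} : Set G)).index = n} ≤ 3)
    {t : G} (ht : orderOf t = 2) :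
    ∀ u ∈ centralizer ({t} : Set G), ∀ v ∈ centralizer ({t} : Set G), Commute u v := by
  classical
  by_cases hanti : ∀ x y : G, x ≠ 1 → y ≠ 1 → cs x ∣ cs y → cs x = cs y
  · exact comm_of_antichain hanti ht
  push Not at hanti
  obtain ⟨x, y, hx, hy, hd, hne⟩ := hanti
  set S := {n : ℕ | 1 < n ∧ ∃ x : G, (centralizer ({x} : Set G)).index = n}
  have hmem : ∀ v : G, v ≠ 1 → cs v ∈ S := fun v hv =>
    ⟨Nat.one_lt_iff_ne_zero_and_ne_one.2 ⟨index_ne_zero_of_finite,
      fun e => hv (mem_bot.1 (hZ ▸ cs_eq_one_iff.1 e))⟩, v, rfl⟩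
  have hfin : S.Finite := (Set.finite_range fun x : G => cs x).subset fun n hn => hn.2
  obtain ⟨w, hw1, hw⟩ : ∃ w : G, w ≠ 1 ∧ ∀ v : G, v ≠ 1 →
      cs v = cs x ∨ cs v = cs y ∨ cs v = cs w := by
    by_cases hex : ∃ w : G, w ≠ 1 ∧ cs w ≠ cs x ∧ cs w ≠ cs y
    · obtain ⟨w, hw1, hwx, hwy⟩ := hex
      refine ⟨w, hw1, fun v hv => ?_⟩
      by_contra hno
      push Not at hno
      obtain ⟨h1, h2, h3⟩ := hno
      have hsub : ((({cs v, cs x, cs y, cs w} : Finset ℕ) : Set ℕ)) ⊆ S := by
        intro n hn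
        simp only [Finset.coe_insert, Finset.coe_singleton, Set.mem_insert_iff,
          Set.mem_singleton_iff] at hn
        rcases hn with rfl | rfl | rfl | rfl <;> exact hmem _ (by assumption)
      have h4 := Set.ncard_le_ncard hsub hfin
      rw [Set.ncard_coe_finset, Finset.card_insert_of_notMem (by simp [h1, h2, h3]),
        Finset.card_insert_of_notMem (by simp [hne, hwx.symm]),
        Finset.card_insert_of_notMem (by simp [hwy.symm]), Finset.card_singleton,
        ← Nat.card_coe_set_eq] at h4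
      omega
    · push Not at hex
      exact ⟨x, hx, fun v hv => (eq_or_ne (cs v) (cs x)).imp_right fun h => .inl (hex v hv h)⟩
  exact Data.comm_cent (a := cs x) (b := cs y) (c := cs w)
    ⟨hns, hZ, hw, hd, hne, ⟨x, hx, rfl⟩, ⟨y, hy, rfl⟩, ⟨w, hw1, rfl⟩⟩ ht

theorem solvable_or_psl (hZ : center G = ⊥)
    (h : Nat.card {n : ℕ | 1 < n ∧ ∃ x : G, (centralizer ({x} : Set G)).index = n} ≤ 3) :
    Group.IsSolvable G ∨ ∃ a : ℕ, 0 < a ∧
      Nonempty (G ≃* Matrix.ProjectiveSpecialLinearGroup (Fin 2) (GaloisField 2 a)) := by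
  refine or_iff_not_imp_left.2 fun hns => ?_
  haveI := Fact.mk Nat.prime_two
  have heven : Even (Nat.card G) := by
    by_contra h2
    exact hns (Cfsg.Agent.PF.isSolvable_of_odd G (Nat.not_even_iff_odd.1 h2))
  have hcent : ∀ t : G, orderOf t = 2 → IsMulCommutative (centralizer ({t} : Set G)) := fun t ht =>
    ⟨⟨fun u v => Subtype.ext (comm_cent_of_three hns hZ h ht u u.2 v v.2).eq⟩⟩
  rcases Cfsg.Agent.S2202.result heven hcent with hcyc | hnorm | ⟨F, _, _, A, _, _, hchar, -, ⟨e⟩⟩
  · obtain ⟨P⟩ : Nonempty (Sylow 2 G) := inferInstance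
    exact absurd (Cfsg.Lib.CyclicInter.solvable_of_cyclic P (hcyc P)) hns
  · obtain ⟨P⟩ : Nonempty (Sylow 2 G) := inferInstance
    exact absurd (Cfsg.Lib.BenderSE.Ring2.solvable_of_normal_sylow P (hnorm P)) hns
  · have hA : ∀ a : A, a = 1 := fun a => by
      have h1 : e.symm (1, a) ∈ center G := Subgroup.mem_center_iff.2 fun g => by
        apply e.injective
        rw [map_mul, map_mul, e.apply_symm_apply]
        exact Prod.ext (by simp) (mul_comm _ _)
      rw [hZ, mem_bot, MulEquiv.map_eq_one_iff] at h1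
      exact congrArg Prod.snd h1
    let e₁ : G ≃* SL(2, F) := e.trans
      { toFun := fun p => p.1
        invFun := fun s => (s, 1)
        left_inv := fun p => Prod.ext rfl (hA p.2).symm
        right_inv := fun _ => rfl
        map_mul' := fun _ _ => rfl }
    let e₂ : G ≃* Matrix.ProjectiveSpecialLinearGroup (Fin 2) F := e₁.trans
      (MulEquiv.ofBijective Cfsg.Lib.GLTwo.prj ⟨Cfsg.Lib.GLTwo.prj_injective,
        QuotientGroup.mk'_surjective _⟩)
    obtain ⟨⟨m, hm⟩, -, hcard⟩ := FiniteField.card F 2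
    haveI : Fintype (GaloisField 2 m) := Fintype.ofFinite _
    obtain ⟨ρ⟩ := Cfsg.Lib.PrimePowerOrders.psl_congr (F := F) (K := GaloisField 2 m) (by
      rw [hcard, ← Nat.card_eq_fintype_card, GaloisField.card 2 m (by omega)]
      rfl)
    exact ⟨m, hm, ⟨e₂.trans ρ⟩⟩

end Cfsg.Lib.ThreeSizes
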