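import Cfsg.Agent.ClassSize.RankThree.Basic

/-!
# Generalities on centralisers for groups with three class sizes
-/

set_option autoImplicit false
set_option linter.unusedSectionVars false
set_option linter.style.haveILetI false

namespace Cfsg.Lib.ThreeSizes

open Subgroup Cfsg.Lib.ClassSize Cfsg.Lib.ClassSize.RankThree

universe u

variable {G : Type u} [Group G] [Finite G]

theorem ne_one_of_cs {x : G} (h : cs x ≠ 1) : x ≠ 1 := fun e =>
  h (cs_eq_one_iff.2 (e ▸ one_mem _))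

theorem card_cent_mul (x : G) :
    Nat.card (centralizer ({x} : Set G)) * cs x = Nat.card G :=
  card_mul_index _

/-- An element of order not prime to `n` has a power of prime order dividing `n`. -/
theorem exists_prime_pow_of_not_coprime {x : G} {n : ℕ} (h : ¬ (orderOf x).Coprime n) :
    ∃ q : ℕ, q.Prime ∧ q ∣ n ∧ q ∣ orderOf x ∧ ∃ u ∈ zpowers x, orderOf u = q := by
  obtain ⟨q, hq, h1, h2⟩ := Nat.Prime.not_coprime_iff_dvd.1 h
  exact ⟨q, hq, h2, h1, _, pow_mem (mem_zpowers x) _,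
    orderOf_pow_orderOf_div (orderOf_pos x).ne' h1⟩

theorem ne_one_of_prime {x : G} {q : ℕ} (hq : q.Prime) (h : orderOf x = q) : x ≠ 1 := fun e =>
  hq.ne_one (by rw [← h, e, orderOf_one])

theorem pel_of_prime {x : G} {q : ℕ} (h : orderOf x = q) : PEl q x := ⟨1, by rw [h, pow_one]⟩

/-- A subgroup has order prime to `n` as soon as it has no element of prime order dividing `n`. -/
theorem coprime_of_no_elt {H : Subgroup G} {n : ℕ}
    (h : ∀ q : ℕ, q.Prime → q ∣ n → ∀ u ∈ H, orderOf u ≠ q) : (Nat.card H).Coprime n := by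
  refine Nat.coprime_of_dvd fun q hq h1 h2 => ?_
  haveI := Fact.mk hq
  obtain ⟨⟨u, hu⟩, ho⟩ := exists_prime_orderOf_dvd_card' (G := H) q h1
  exact h q hq h2 u hu (by rwa [Subgroup.orderOf_mk] at ho)

/-- The join with a normal subgroup. -/
theorem card_sup_dvd {R H : Subgroup G} [R.Normal] :
    Nat.card (R ⊔ H : Subgroup G) ∣ Nat.card R * Nat.card H := by
  have h1 := (relIndex_mul_relIndex ⊥ R (R ⊔ H) bot_le le_sup_left)
  rw [relIndex_bot_left, relIndex_bot_left, sup_comm, relIndex_sup_right] at h1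
  rw [sup_comm, ← h1]
  exact Nat.mul_dvd_mul_left _ (relIndex_dvd_card _ _)

theorem eq_of_le_of_card {H K : Subgroup G} (hle : H ≤ K) (h : Nat.card K ∣ Nat.card H) : H = K :=
  eq_of_le_of_card_ge hle (Nat.le_of_dvd Nat.card_pos h)

theorem exists_central_pel {p : ℕ} (hp : p.Prime) (hd : p ∣ Nat.card G) :
    ∃ x : G, x ≠ 1 ∧ PEl p x ∧ ¬ p ∣ cs x := by
  haveI := Fact.mk hp
  obtain ⟨P⟩ : Nonempty (Sylow p G) := inferInstance
  have hne : (P : Subgroup G) ≠ ⊥ := fun h => by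
    have := P.not_dvd_index
    rw [h, index_bot] at this
    exact this hd
  haveI : Nontrivial (P : Subgroup G) := (nontrivial_iff_ne_bot _).2 hne
  haveI := P.2.center_nontrivial
  obtain ⟨⟨⟨x, hxP⟩, hxc⟩, hx1⟩ := exists_ne (1 : center (P : Subgroup G))
  have hx : x ≠ 1 := fun e => hx1 (Subtype.ext (Subtype.ext e))
  refine ⟨x, hx, ?_, fun h => P.not_dvd_index (h.trans (index_dvd_of_le fun y hy => mem_cent.2 ?_))⟩
  · obtain ⟨k, hk⟩ := IsPGroup.iff_orderOf.1 P.2 ⟨x, hxP⟩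
    exact ⟨k, by rwa [Subgroup.orderOf_mk] at hk⟩
  · exact congrArg Subtype.val (Subgroup.mem_center_iff.1 hxc ⟨y, hy⟩)

theorem exists_two_pow {x : G} (hx : PEl 2 x) (hx1 : x ≠ 1) : ∃ i ∈ zpowers x, orderOf i = 2 := by
  obtain ⟨k, hk⟩ := hx
  have hk0 : k ≠ 0 := fun e => hx1 (orderOf_eq_one_iff.1 (by rw [hk, e, pow_zero]))
  exact ⟨_, pow_mem (mem_zpowers x) _,
    orderOf_pow_orderOf_div (orderOf_pos x).ne' (hk ▸ dvd_pow_self 2 hk0)⟩

theorem not_pel_of_ne {p q : ℕ} (hp : p.Prime) (hq : q.Prime) (hpq : p ≠ q) {x : G} (hx : PEl p x) :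
    ¬ q ∣ orderOf x := by
  obtain ⟨k, hk⟩ := hx
  intro hd
  rw [hk] at hd
  exact hpq ((Nat.prime_dvd_prime_iff_eq hq hp).1 (hq.dvd_of_dvd_pow hd)).symm

/-- A minimal centraliser of a `p`-element with abelian Sylow `p`-subgroup is abelian. -/
theorem comm_of_abelian_sylow {x : G} {p : ℕ} (hp : p.Prime) (hx : PEl p x) (hx1 : x ≠ 1)
    (hmin : MinCent x)
    (hab : ∀ Q : Subgroup G, IsPGroup p Q → ∀ a ∈ Q, ∀ b ∈ Q, Commute a b) :
    ∀ a ∈ centralizer ({x} : Set G), ∀ b ∈ centralizer ({x} : Set G), Commute a b := by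
  haveI := Fact.mk hp
  set H := centralizer ({x} : Set G) with hH
  obtain ⟨P⟩ : Nonempty (Sylow p H) := inferInstance
  set Z := center H with hZ
  have hcomm : ∀ a ∈ (P : Subgroup H) ⊔ Z, ∀ b ∈ (P : Subgroup H) ⊔ Z, a * b = b * a := by
    intro a ha b hb
    haveI : Z.Normal := by rw [hZ]; infer_instance
    rw [mem_sup_of_normal_right] at ha hb
    obtain ⟨a₁, ha₁, a₂, ha₂, rfl⟩ := ha
    obtain ⟨b₁, hb₁, b₂, hb₂, rfl⟩ := hb
    have h1 : Commute a₁ b₁ := Subtype.ext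
      (hab ((P : Subgroup H).map H.subtype) (P.2.map _) a₁ (mem_map_of_mem _ ha₁) b₁
        (mem_map_of_mem _ hb₁)).eq
    have hza : ∀ w, Commute a₂ w := fun w => ((Subgroup.mem_center_iff.1 ha₂) w).symm
    have hzb : ∀ w, Commute w b₂ := fun w => (Subgroup.mem_center_iff.1 hb₂) w
    exact ((h1.mul_right (hzb a₁)).mul_left (hza _)).eq
  have htop : (P : Subgroup H) ⊔ Z = ⊤ := by
    refine index_eq_one.1 (Nat.eq_one_iff_not_exists_prime_dvd.2 fun r hr hd => ?_)
    rcases eq_or_ne r p with rfl | hrp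
    · exact P.not_dvd_index (hd.trans (index_dvd_of_le le_sup_left))
    · haveI := Fact.mk hr
      obtain ⟨R⟩ : Nonempty (Sylow r H) := inferInstance
      refine R.not_dvd_index (hd.trans (index_dvd_of_le fun w hw => mem_sup_right ?_))
      rw [hZ, Subgroup.mem_center_iff]
      intro v
      obtain ⟨k, hk⟩ := IsPGroup.iff_orderOf.1 R.2 ⟨w, hw⟩
      rw [Subgroup.orderOf_mk] at hk
      refine Subtype.ext (comm_cent hp hx hx1 hmin w.2 v.2 ?_).eq
      exact not_pel_of_ne hr hp hrp ⟨k, by rw [Subgroup.orderOf_coe]; exact hk⟩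
  intro a ha b hb
  exact congrArg Subtype.val (hcomm ⟨a, ha⟩ (htop ▸ mem_top _) ⟨b, hb⟩ (htop ▸ mem_top _))

/-- All class sizes incomparable. -/
theorem comm_of_antichain (hanti : ∀ x y : G, x ≠ 1 → y ≠ 1 → cs x ∣ cs y → cs x = cs y)
    {t : G} (ht : orderOf t = 2) :
    ∀ a ∈ centralizer ({t} : Set G), ∀ b ∈ centralizer ({t} : Set G), Commute a b := by
  haveI := Fact.mk Nat.prime_two
  have hmin : ∀ x : G, x ≠ 1 → MinCent x := fun x hx y hy hd => (hanti x y hx hy hd).symm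
  -- a minimal centraliser of a 2-element is abelian or a 2-group
  have key : ∀ x : G, PEl 2 x → x ≠ 1 →
      (∀ a ∈ centralizer ({x} : Set G), ∀ b ∈ centralizer ({x} : Set G), Commute a b) ∨
      IsPGroup 2 (centralizer ({x} : Set G)) := by
    intro x hx hx1
    by_cases h : ∃ r : ℕ, r.Prime ∧ r ≠ 2 ∧ r ∣ Nat.card (centralizer ({x} : Set G))
    · obtain ⟨r, hr, hr2, hd⟩ := h
      haveI := Fact.mk hr
      obtain ⟨⟨u, hu⟩, ho⟩ := exists_prime_orderOf_dvd_card' r hd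
      rw [Subgroup.orderOf_mk] at ho
      have hu1 : u ≠ 1 := fun e => hr.ne_one (by rw [← ho, e, orderOf_one])
      have hle := central_of_min Nat.prime_two hx hx1 (hmin x hx1) hu
        (not_pel_of_ne hr Nat.prime_two hr2 ⟨1, by rw [ho, pow_one]⟩)
      exact .inl (comm_of_two Nat.prime_two hr hr2.symm hx hx1 (hmin x hx1)
        ⟨1, by rw [ho, pow_one]⟩ hu1 hu (hanti u x hu1 hx1 (index_dvd_of_le hle)))
    · push Not at h
      exact .inr (IsPGroup.iff_card.2 ⟨_, Nat.eq_prime_pow_of_unique_prime_dvd Nat.card_pos.ne'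
        fun {r} hr hd => by by_contra hne; exact h r hr hne hd⟩)
  have ht1 : t ≠ 1 := fun e => by simp [e] at ht
  refine (key t ⟨1, by rw [ht, pow_one]⟩ ht1).elim id fun h2 => ?_
  obtain ⟨S, hS⟩ := h2.exists_le_sylow
  suffices hab : ∀ a ∈ (S : Subgroup G), ∀ b ∈ (S : Subgroup G), Commute a b from
    fun a ha b hb => hab a (hS ha) b (hS hb)
  have htS : t ∈ (S : Subgroup G) := hS (mem_cent.2 (Commute.refl t))
  haveI : Nontrivial (S : Subgroup G) := ⟨⟨⟨t, htS⟩, 1, fun e => ht1 (congrArg Subtype.val e)⟩⟩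
  haveI := S.2.center_nontrivial
  obtain ⟨⟨⟨z, hzS⟩, hzc⟩, hz1'⟩ := exists_ne (1 : center (S : Subgroup G))
  have hz1 : z ≠ 1 := fun e => hz1' (Subtype.ext (Subtype.ext e))
  have hSz : (S : Subgroup G) ≤ centralizer ({z} : Set G) := fun y hy =>
    mem_cent.2 (congrArg Subtype.val (Subgroup.mem_center_iff.1 hzc ⟨y, hy⟩))
  have hpel : ∀ x ∈ (S : Subgroup G), PEl 2 x := fun x hx => by
    obtain ⟨k, hk⟩ := IsPGroup.iff_orderOf.1 S.2 ⟨x, hx⟩
    exact ⟨k, by rwa [Subgroup.orderOf_mk] at hk⟩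
  rcases key z (hpel z hzS) hz1 with hzab | hz2
  · exact fun a ha b hb => hzab a (hSz ha) b (hSz hb)
  have hCz : centralizer ({z} : Set G) = (S : Subgroup G) := S.3 hz2 hSz
  by_contra hab
  push Not at hab
  obtain ⟨a, ha, b, hb, hab⟩ := hab
  refine hab (two_comm S.2 (fun x hx y hy hx1 hy1 => ?_) a ha b hb)
  suffices h : ∀ w ∈ (S : Subgroup G), w ≠ 1 → cs z = cs w from (h x hx hx1).symm.trans (h y hy hy1)
  intro w hw hw1
  rcases key w (hpel w hw) hw1 with hwab | hw2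
  · refine hanti z w hz1 hw1 (index_dvd_of_le fun v hv => mem_cent.2 ?_)
    exact hwab v hv z (mem_cent_comm.1 (hSz hw))
  · obtain ⟨T, hT⟩ := hw2.exists_le_sylow
    refine hanti z w hz1 hw1 ?_
    have : cs z = (T : Subgroup G).index := by
      rw [cs, hCz]
      have h1 := (T : Subgroup G).card_mul_index
      rw [T.card_eq_multiplicity, ← S.card_eq_multiplicity, ← (S : Subgroup G).card_mul_index] at h1
      exact (Nat.eq_of_mul_eq_mul_left Nat.card_pos h1).symm
    rw [this]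
    exact index_dvd_of_le hT

end Cfsg.Lib.ThreeSizes
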