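import Cfsg.Agent.ThreeSizes.NoComm

/-!
# The order of the group and the centralisers of the three classes
-/

set_option autoImplicit false
set_option linter.unusedSectionVars false
set_option linter.style.haveILetI false

namespace Cfsg.Lib.ThreeSizes

open Subgroup Cfsg.Lib.ClassSize Cfsg.Lib.ClassSize.RankThree

universe u

variable {G : Type u} [Group G] [Finite G]

namespace Data

variable {a b c : ℕ} (D : Data G a b c)
include D

theorem card_eq : Nat.card G = a * c := by
  obtain ⟨x₀, p₀, hp₀, hx₀, hx₀a⟩ := D.part_a_exists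
  obtain ⟨q, hq, hqa⟩ := Nat.exists_prime_and_dvd D.a_gt.ne'
  have hqp : q ≠ p₀ := fun e => D.not_dvd_a_of_class_a hp₀ hx₀ hx₀a (e ▸ hqa)
  obtain ⟨y, hy1, hy, hyq⟩ := exists_central_pel (G := G) hq (hqa.trans D.a_dvd)
  have hyc := D.class_c_of hqa hy1 hyq
  have hbot : centralizer ({x₀} : Set G) ⊓ centralizer ({y} : Set G) = ⊥ := by
    rw [eq_bot_iff_forall]
    intro d hd
    by_contra hd1
    obtain ⟨r, hr, e, he, he1, her⟩ := exists_part hd1
    obtain ⟨hex, hey⟩ := mem_inf.1 ((zpowers_le.2 hd) he)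
    have heb : cs e = b := by
      rcases D.vals e he1 with f | f | f
      · exact absurd (mem_cent.1 hey) (D.nocomm f hyc)
      · exact f
      · exact absurd (mem_cent.1 hex).symm (D.nocomm hx₀a f)
    have hxC : x₀ ∈ centralizer ({e} : Set G) := mem_cent_comm.1 hex
    have hyC : y ∈ centralizer ({e} : Set G) := mem_cent_comm.1 hey
    rcases eq_or_ne p₀ r with rfl | hne
    · exact D.nocomm hx₀a hyc (comm_cent hr her he1 (D.minCent_b heb) hyC hxC
        (not_pel_of_ne hq hr hqp hy))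
    · exact D.nocomm hx₀a hyc (comm_cent hr her he1 (D.minCent_b heb) hxC hyC
        (not_pel_of_ne hp₀ hr hne hx₀)).symm
  have h := index_inf_of_coprime (A := centralizer ({x₀} : Set G))
    (B := centralizer ({y} : Set G)) (by
      rw [show (centralizer ({x₀} : Set G)).index = a from hx₀a,
        show (centralizer ({y} : Set G)).index = c from hyc]; exact D.cop)
  rw [hbot, index_bot] at h
  rw [h]
  show cs x₀ * cs y = _
  rw [hx₀a, hyc]

theorem card_of_c {u : G} (h : cs u = c) : Nat.card (centralizer ({u} : Set G)) = a := by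
  have h1 := card_cent_mul u
  rw [h, D.card_eq] at h1
  exact Nat.eq_of_mul_eq_mul_right (by have := D.c_gt; omega) h1

theorem card_of_a {u : G} (h : cs u = a) : Nat.card (centralizer ({u} : Set G)) = c := by
  have h1 := card_cent_mul u
  rw [h, D.card_eq, mul_comm a] at h1
  exact Nat.eq_of_mul_eq_mul_right (by have := D.a_gt; omega) h1

theorem dvd_c_of_ne {u : G} (hu : u ≠ 1) (h : cs u ≠ c) :
    Nat.card (centralizer ({u} : Set G)) ∣ c := by
  rcases D.vals u hu with e | e | e
  · rw [D.card_of_a e]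
  · obtain ⟨m, hm⟩ := D.hab
    refine ⟨m, Nat.eq_of_mul_eq_mul_left (show 0 < a by have := D.a_gt; omega) ?_⟩
    rw [← D.card_eq, ← card_cent_mul u, e, hm]
    ring
  · exact absurd e h

theorem order_dvd_c_of_ne {u : G} (hu : u ≠ 1) (h : cs u ≠ c) : orderOf u ∣ c :=
  (Subgroup.orderOf_dvd_natCard _ (mem_cent.2 (Commute.refl u))).trans (D.dvd_c_of_ne hu h)

theorem order_dvd_a_of_c {u : G} (h : cs u = c) : orderOf u ∣ a :=
  D.card_of_c h ▸ Subgroup.orderOf_dvd_natCard _ (mem_cent.2 (Commute.refl u))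

theorem cs_c {u : G} (h : ¬ (orderOf u).Coprime a) : cs u = c := by
  have hu : u ≠ 1 := fun e => h (by rw [e, orderOf_one]; exact Nat.coprime_one_left _)
  by_contra hne
  exact h (D.cop.symm.coprime_dvd_left (D.order_dvd_c_of_ne hu hne))

theorem cs_c_of_prime {u : G} {q : ℕ} (hq : q.Prime) (hqa : q ∣ a) (ho : orderOf u = q) :
    cs u = c :=
  D.cs_c (Nat.Prime.not_coprime_iff_dvd.2 ⟨q, hq, ho ▸ dvd_rfl, hqa⟩)

/-- An element of class `c` commutes only with elements of class `c`. -/
theorem cs_c_of_commute {u v : G} (hu : cs u = c) (hv : v ≠ 1) (huv : Commute v u) : cs v = c := by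
  have h : orderOf v ∣ a := D.card_of_c hu ▸ Subgroup.orderOf_dvd_natCard _ (mem_cent.2 huv)
  refine D.cs_c fun hc => hv (orderOf_eq_one_iff.1 ?_)
  exact Nat.eq_one_of_dvd_coprimes hc dvd_rfl h

theorem minCent_c {u : G} (h : cs u = c) : MinCent u := by
  intro y hy hd
  by_contra hne
  rw [h] at hd hne
  have h1 := D.dvd_c_of_ne hy hne
  rcases D.vals y hy with e | e | e
  · exact D.nca (e ▸ hd)
  · have h2 := card_cent_mul y
    have hy1 : Nat.card (centralizer ({y} : Set G)) = 1 := by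
      have hd' : Nat.card G ∣ cs y := by
        rw [D.card_eq]
        exact D.cop.mul_dvd_of_dvd_of_dvd (e ▸ D.hab) hd
      have hle := Nat.le_of_dvd (Nat.pos_of_ne_zero index_ne_zero_of_finite) hd'
      rw [← h2] at hle
      exact le_antisymm (Nat.le_of_mul_le_mul_right (by rwa [one_mul])
        (Nat.pos_of_ne_zero index_ne_zero_of_finite)) Nat.card_pos
    exact hy (mem_bot.1 (card_eq_one.1 hy1 ▸ mem_cent.2 (Commute.refl y)))
  · exact hne e

/-- The centralisers of class `c` are abelian, or `a` is a prime power. -/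
theorem abelian_or_primePow :
    (∀ u : G, cs u = c → ∀ v ∈ centralizer ({u} : Set G), ∀ w ∈ centralizer ({u} : Set G),
      Commute v w) ∨ ∃ q k : ℕ, q.Prime ∧ a = q ^ k := by
  by_cases h : ∃ q r : ℕ, q.Prime ∧ r.Prime ∧ q ≠ r ∧ q ∣ a ∧ r ∣ a
  · left
    intro u hu
    obtain ⟨p, hp, u₁, hu₁, hu₁1, hu₁p⟩ := exists_part (D.ne_one (.inr (.inr hu)))
    have hu₁c := D.part_c hu₁ hu₁1 hu
    have he := cent_eq_of_le (cent_le_of_mem_zpowers hu₁) (hu.trans hu₁c.symm)
    rw [he]
    obtain ⟨q, hq, hqp, hqa⟩ : ∃ q : ℕ, q.Prime ∧ q ≠ p ∧ q ∣ a := by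
      obtain ⟨q, r, hq, hr, hqr, hqa, hra⟩ := h
      rcases eq_or_ne q p with rfl | hne
      · exact ⟨r, hr, hqr.symm, hra⟩
      · exact ⟨q, hq, hne, hqa⟩
    haveI := Fact.mk hq
    obtain ⟨⟨v, hv⟩, hvo⟩ := exists_prime_orderOf_dvd_card'
      (G := centralizer ({u₁} : Set G)) q (by rw [D.card_of_c hu₁c]; exact hqa)
    rw [Subgroup.orderOf_mk] at hvo
    exact comm_of_two hp hq hqp.symm hu₁p hu₁1 (D.minCent_c hu₁c) (pel_of_prime hvo)
      (ne_one_of_prime hq hvo) hv ((D.cs_c_of_prime hq hqa hvo).trans hu₁c.symm)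
  · right
    push Not at h
    obtain ⟨q, hq, hqa⟩ := Nat.exists_prime_and_dvd D.a_gt.ne'
    exact ⟨q, _, hq, Nat.eq_prime_pow_of_unique_prime_dvd (by have := D.a_gt; omega)
      fun {r} hr hra => by
        by_contra hne
        exact h q r hq hr (Ne.symm hne) hqa hra⟩

/-- Centralisers of class `c` are soluble. -/
theorem solvable_cent_c {u : G} (hu : cs u = c) :
    Group.IsSolvable (centralizer ({u} : Set G)) := by
  rcases D.abelian_or_primePow with h | ⟨q, k, hq, ha⟩
  · exact Group.isSolvable_of_comm fun v w => Subtype.ext (h u hu v v.2 w w.2).eq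
  · haveI := Fact.mk hq
    haveI := (IsPGroup.of_card (n := k) (ha ▸ D.card_of_c hu)).isNilpotent
    infer_instance

end Data

end Cfsg.Lib.ThreeSizes
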