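import Cfsg.Agent.ThreeSizes.Radical
import Cfsg.Agent.S3200
import Cfsg.Agent.OddChar.PF.OddOrder
import Cfsg.Agent.Chars.Burnside
import Cfsg.Agent.OddLocal.CNMaximal

/-!
# The involution of class `a` does not lie in the radical
-/

set_option autoImplicit false
set_option linter.unusedSectionVars false
set_option linter.style.haveILetI false

namespace Cfsg.Lib.ThreeSizes

open Subgroup Cfsg.Lib.ClassSize Cfsg.Lib.ClassSize.RankThree

universe u

variable {G : Type u} [Group G] [Finite G]

namespace Inv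

variable {a b c : ℕ} {z : G} (I : Inv G a b c z) {R : Subgroup G} [R.Normal]
  (hRc : (Nat.card R).Coprime a) (hRn : Group.IsNilpotent R)
  (hmax : ∀ K : Subgroup G, K.Normal → ((Nat.card K).Coprime a ∨ Group.IsSolvable K) → K ≤ R)
include I

include hRc in
theorem rad_le_cent {u : G} (hu : cs u = a) : R ≤ centralizer ({u} : Set G) := by
  set C := centralizer ({u} : Set G)
  have hC : Nat.card C = c := I.toData.card_of_a hu
  have h1 : Nat.card (R ⊔ C : Subgroup G) ∣ Nat.card R * c := hC ▸ card_sup_dvd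
  have hcop : (Nat.card (R ⊔ C : Subgroup G)).Coprime a :=
    Nat.Coprime.coprime_dvd_left h1 (Nat.Coprime.mul_left hRc I.toData.cop.symm)
  have h2 : Nat.card (R ⊔ C : Subgroup G) ∣ c := hcop.dvd_of_dvd_mul_left
    (I.toData.card_eq ▸ card_subgroup_dvd_card _)
  have h3 : C = R ⊔ C := eq_of_le_of_card le_sup_right (hC.symm ▸ h2)
  exact h3 ▸ le_sup_left

include hRc hmax in
theorem cent_le_rad {N : Subgroup G} [N.Normal] (hNb : N ≠ ⊥) (hNR : N ≤ R) :
    centralizer (N : Set G) ≤ R := by
  obtain ⟨x, hx, hx1⟩ := (bot_or_exists_ne_one N).resolve_left hNb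
  refine hmax _ inferInstance (.inl (coprime_of_no_elt fun q hq hqa u hu ho => hx1 ?_))
  exact I.eq_one_of_commute_c hRc (I.toData.cs_c_of_prime hq hqa ho) (hNR hx)
    (mem_centralizer_iff.1 hu x hx)

include hRc in
theorem cs_ne_c_of_mem {x : G} (hx : x ∈ R) : cs x ≠ c := fun e => by
  have h1 : orderOf x = 1 := Nat.eq_one_of_dvd_coprimes hRc
    (Subgroup.orderOf_dvd_natCard R hx) (I.toData.order_dvd_a_of_c e)
  rw [orderOf_eq_one_iff] at h1
  exact I.toData.ne_one (.inr (.inr e)) h1

include hRn in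
theorem index_not_odd : 2 ∣ R.index := by
  by_contra h2
  haveI := hRn
  haveI : Group.IsSolvable (G ⧸ R) := Cfsg.Agent.PF.isSolvable_of_odd _
    (by rw [← index_eq_card, ← Nat.not_even_iff_odd, even_iff_two_dvd]; exact h2)
  exact I.ns (Group.isSolvable_of_ker_le_range R.subtype (QuotientGroup.mk' R)
    (by rw [QuotientGroup.ker_mk', range_subtype]))

/-- Some odd prime divides `c`. -/
theorem exists_odd_prime : ∃ r : ℕ, r.Prime ∧ r ≠ 2 ∧ r ∣ c := by
  by_contra hno
  push Not at hno
  haveI := Fact.mk Nat.prime_two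
  have hc : c = 2 ^ c.primeFactorsList.length :=
    Nat.eq_prime_pow_of_unique_prime_dvd (by have := I.toData.c_gt; omega) fun {r} hr hrc => by
      by_contra hr2
      exact hno r hr hr2 hrc
  rcases I.toData.abelian_or_primePow with hab | ⟨q, k, hq, ha⟩
  · obtain ⟨u, -, hu⟩ := I.ec
    set C := centralizer ({u} : Set G)
    obtain ⟨S⟩ : Nonempty (Sylow 2 G) := inferInstance
    have hS : Nat.card (S : Subgroup G) = c := by
      rw [S.card_eq_multiplicity, I.toData.card_eq, Nat.factorization_mul
        (by have := I.toData.a_gt; omega) (by have := I.toData.c_gt; omega), Finsupp.add_apply,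
        Nat.factorization_eq_zero_of_not_dvd I.a_odd, zero_add]
      conv_lhs => rw [hc, Nat.factorization_pow, Finsupp.smul_apply,
        Nat.Prime.factorization_self Nat.prime_two, smul_eq_mul, mul_one]
      exact hc.symm
    have hCS : Subgroup.IsComplement' (S : Subgroup G) C := isComplement'_of_coprime
      (by rw [hS, I.toData.card_of_c hu, I.toData.card_eq, mul_comm])
      (by rw [hS, I.toData.card_of_c hu]; exact I.toData.cop.symm)
    exact I.ns (Cfsg.Agent.S3200.result S C
      ⟨⟨fun v w => Subtype.ext (hab u hu v v.2 w w.2).eq⟩⟩ hCS).1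
  · exact I.ns (Cfsg.Lib.Chars.burnside_isSolvable q 2 hq Nat.prime_two G
      ⟨k, _, by rw [I.toData.card_eq, ha]; exact congrArg (q ^ k * ·) hc⟩)

include hRc hRn hmax in
theorem not_mem_rad : z ∉ R := by
  intro hzR
  haveI := Fact.mk Nat.prime_two
  have hRb : R ≠ ⊥ := fun e => I.z_ne (mem_bot.1 (e ▸ hzR))
  set Z := (center R).map R.subtype with hZdef
  have hzZ : z ∈ Z := ⟨⟨z, hzR⟩, Subgroup.mem_center_iff.2 fun r => Subtype.ext
    (mem_cent.1 (I.rad_le_cent hRc I.za r.2)).eq, rfl⟩
  have hZR : Z ≤ R := map_subtype_le _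
  have hZc : ∀ w ∈ Z, ∀ r ∈ R, Commute r w := by
    rintro _ ⟨w, hw, rfl⟩ r hr
    exact congrArg Subtype.val (Subgroup.mem_center_iff.1 hw ⟨r, hr⟩)
  haveI : Z.Normal := by rw [hZdef]; infer_instance
  set E := normalClosure ({z} : Set G) with hEdef
  have hEZ : E ≤ Z := normalClosure_le_normal (by simpa using hzZ)
  have hzE : z ∈ E := subset_normalClosure rfl
  have hEb : E ≠ ⊥ := fun e => I.z_ne (mem_bot.1 (e ▸ hzE))
  have hEcomm : ∀ v ∈ E, ∀ w ∈ E, Commute v w := fun v hv w hw =>
    hZc w (hEZ hw) v (hZR (hEZ hv))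
  have hE2 : ∀ w ∈ E, w * w = 1 := by
    intro w hw
    have hzz : z * z = 1 := by rw [← pow_two, ← I.zo, pow_orderOf_eq_one]
    refine closure_induction (p := fun w _ => w * w = 1) ?_ (one_mul 1) ?_ ?_ hw
    · intro v hv
      obtain ⟨z', hz', hcj⟩ := Group.mem_conjugatesOfSet_iff.1 hv
      rw [Set.mem_singleton_iff] at hz'; subst hz'
      obtain ⟨k, rfl⟩ := isConj_iff.1 hcj
      rw [show k * z' * k⁻¹ * (k * z' * k⁻¹) = k * (z' * z') * k⁻¹ by group, hzz]; group
    · intro v w hv hw hv2 hw2
      have h := hEcomm v hv w hw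
      calc v * w * (v * w) = v * (w * v) * w := by group
        _ = v * (v * w) * w := by rw [h.eq]
        _ = v * v * (w * w) := by group
        _ = 1 := by rw [hv2, hw2, one_mul]
    · intro v _ hv2
      rw [← mul_inv_rev, hv2, inv_one]
  have hCE : centralizer (E : Set G) ≤ R := I.cent_le_rad hRc hmax hEb (hEZ.trans hZR)
  -- a 2-element outside the radical
  obtain ⟨t, htp, htR⟩ : ∃ t : G, PEl 2 t ∧ t ∉ R := by
    by_contra hno
    push Not at hno
    obtain ⟨S⟩ : Nonempty (Sylow 2 G) := inferInstance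
    refine S.not_dvd_index ((I.index_not_odd hRn).trans (index_dvd_of_le fun w hw => ?_))
    obtain ⟨k, hk⟩ := IsPGroup.iff_orderOf.1 S.2 ⟨w, hw⟩
    exact hno w ⟨k, by rwa [Subgroup.orderOf_mk] at hk⟩
  have houtb : ∀ u : G, u ∉ R → cs u ≠ c → cs u = b := fun u hu hne => by
    rcases I.vals u (fun e => hu (e ▸ one_mem R)) with e | e | e
    · refine absurd (I.cent_le_rad hRc hmax hRb le_rfl (mem_centralizer_iff.2 fun r hr => ?_)) hu
      exact (mem_cent.1 (I.rad_le_cent hRc e hr)).eq
    · exact e
    · exact absurd e hne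
  have ht1 : t ≠ 1 := fun e => htR (e ▸ one_mem R)
  have htc : cs t ≠ c := fun e => by
    obtain ⟨k, hk⟩ := htp
    have hk0 : k ≠ 0 := fun e' => ht1 (orderOf_eq_one_iff.1 (by rw [hk, e', pow_zero]))
    exact I.a_odd ((hk ▸ dvd_pow_self 2 hk0).trans (I.toData.order_dvd_a_of_c e))
  have htb := houtb t htR htc
  -- an element of odd order outside the radical does not commute with `t`
  have principle : ∀ u : G, u ∉ R → ¬ 2 ∣ orderOf u → ¬ Commute u t := by
    intro u hu hodd hut
    have huc : cs u ≠ c := fun e => htc (I.toData.cs_c_of_commute e ht1 hut.symm)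
    have hub := houtb u hu huc
    have hCeq : centralizer ({t} : Set G) = centralizer ({u} : Set G) :=
      cent_eq_of_le (central_of_min Nat.prime_two htp ht1 (I.toData.minCent_b htb)
        (mem_cent.2 hut) hodd) (htb.trans hub.symm)
    set f : G → G := fun e => u * e * u⁻¹ * e⁻¹ with hf
    set s : G → G := fun w => t * w * t⁻¹ with hs
    set D : G → G := fun w => w * s w with hD
    have hsE : ∀ w ∈ E, s w ∈ E := fun w hw => normalClosure_normal.conj_mem w hw t
    have hfE : ∀ e ∈ E, f e ∈ E := fun e he =>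
      mul_mem (normalClosure_normal.conj_mem e he u) (inv_mem he)
    have hfmul : ∀ e ∈ E, ∀ e' ∈ E, f (e * e') = f e * f e' := by
      intro e he e' he'
      have h := hEcomm _ (hfE e' he') e⁻¹ (inv_mem he)
      calc f (e * e') = u * e * u⁻¹ * (f e' * e⁻¹) := by simp only [hf]; group
        _ = f e * f e' := by rw [h.eq]; simp only [hf]; group
    have hfs : ∀ e, s (f e) = f (s e) := by
      intro e
      simp only [hf, hs]
      calc t * (u * e * u⁻¹ * e⁻¹) * t⁻¹ = (t * u) * e * (u⁻¹ * e⁻¹) * t⁻¹ := by group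
        _ = (u * t) * e * (u⁻¹ * e⁻¹) * t⁻¹ := by rw [hut.eq]
        _ = u * t * e * ((t * u)⁻¹ * (t * e⁻¹ * t⁻¹)) := by group
        _ = u * t * e * ((u * t)⁻¹ * (t * e⁻¹ * t⁻¹)) := by rw [hut.eq]
        _ = u * (t * e * t⁻¹) * u⁻¹ * (t * e * t⁻¹)⁻¹ := by group
    have hiter : ∀ k : ℕ, ∀ w ∈ E, D^[2 ^ k] w = w * s^[2 ^ k] w ∧ s^[2 ^ k] w ∈ E := by
      intro k
      induction k with
      | zero => intro w hw; exact ⟨rfl, hsE w hw⟩
      | succ k ih =>
        intro w hw
        obtain ⟨h1, h2⟩ := ih w hw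
        have h3 := (ih _ (mul_mem hw h2)).1
        have h4 := (ih _ h2).2
        rw [pow_succ, mul_two, Function.iterate_add_apply, Function.iterate_add_apply, h1, h3]
        refine ⟨?_, h4⟩
        have hsmul : ∀ (n : ℕ) (v v' : G), s^[n] (v * v') = s^[n] v * s^[n] v' := by
          intro n
          induction n with
          | zero => intro v v'; rfl
          | succ n ihn =>
            intro v v'
            rw [Function.iterate_succ_apply', Function.iterate_succ_apply',
              Function.iterate_succ_apply', ihn]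
            simp only [hs]; group
        rw [hsmul]
        calc w * s^[2 ^ k] w * (s^[2 ^ k] w * s^[2 ^ k] (s^[2 ^ k] w))
            = w * (s^[2 ^ k] w * s^[2 ^ k] w) * s^[2 ^ k] (s^[2 ^ k] w) := by group
          _ = w * s^[2 ^ k] (s^[2 ^ k] w) := by rw [hE2 _ h2, mul_one]
    have hpow : ∀ n : ℕ, ∀ w, s^[n] w = t ^ n * w * (t ^ n)⁻¹ := by
      intro n
      induction n with
      | zero => intro w; simp
      | succ n ihn => intro w; rw [Function.iterate_succ_apply', ihn]; simp only [hs]; group
    have hW : ∀ n : ℕ, ∀ w, (∃ e ∈ E, w = f e) → ∃ e ∈ E, D^[n] w = f e := by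
      intro n
      induction n with
      | zero => intro w hw; exact hw
      | succ n ihn =>
        intro w hw
        obtain ⟨e, he, h⟩ := ihn w hw
        exact ⟨e * s e, mul_mem he (hsE e he), by
          rw [Function.iterate_succ_apply', h, hfmul e he _ (hsE e he), ← hfs]⟩
    obtain ⟨e₀, he₀, he₀1⟩ : ∃ e ∈ E, f e ≠ 1 := by
      by_contra hno
      push Not at hno
      refine hu (hCE (mem_centralizer_iff.2 fun e he => ?_))
      have := hno e he
      simp only [hf, mul_inv_eq_one] at this
      exact (mul_inv_eq_iff_eq_mul.1 this).symm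
    obtain ⟨k, hk⟩ := htp
    have hnil : ∃ n, D^[n] (f e₀) = 1 := ⟨2 ^ k, by
      rw [(hiter k _ (hfE e₀ he₀)).1, hpow, ← hk, pow_orderOf_eq_one, one_mul, inv_one, mul_one]
      exact hE2 _ (hfE e₀ he₀)⟩
    classical
    have hN := Nat.find_spec hnil
    have hN0 : Nat.find hnil ≠ 0 := fun e => he₀1 (by simpa [e] using hN)
    obtain ⟨n, hn⟩ := Nat.exists_eq_succ_of_ne_zero hN0
    have hne : D^[n] (f e₀) ≠ 1 := Nat.find_min hnil (by omega)
    rw [hn, Function.iterate_succ_apply'] at hN
    obtain ⟨e, he, hwe⟩ := hW n (f e₀) ⟨e₀, he₀, rfl⟩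
    rw [hwe] at hN hne
    have hfix : s (f e) = f e := by
      have h1 := hE2 _ (hfE e he)
      exact mul_left_cancel ((show f e * s (f e) = 1 from hN).trans h1.symm)
    have hwu : Commute (f e) u := by
      refine mem_cent.1 ?_
      rw [← hCeq]
      exact mem_cent.2 (mul_inv_eq_iff_eq_mul.1 hfix).symm
    have hpw : ∀ m : ℕ, u ^ m * e * (u ^ m)⁻¹ = f e ^ m * e := by
      intro m
      induction m with
      | zero => simp
      | succ m ihm =>
        calc u ^ (m + 1) * e * (u ^ (m + 1))⁻¹ = u * (u ^ m * e * (u ^ m)⁻¹) * u⁻¹ := by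
              rw [pow_succ']; group
          _ = u * f e ^ m * e * u⁻¹ := by rw [ihm]; group
          _ = f e ^ m * u * e * u⁻¹ := by rw [← (hwu.pow_left m).eq]
          _ = f e ^ m * (f e * e) := by
              rw [show f e * e = u * e * u⁻¹ from inv_mul_cancel_right _ e]; group
          _ = f e ^ (m + 1) * e := by rw [pow_succ]; exact (mul_assoc _ _ _).symm
    have h1 := hpw (orderOf u)
    rw [pow_orderOf_eq_one, one_mul, inv_one, mul_one] at h1
    have h2 : f e ^ orderOf u = 1 := mul_eq_right.1 h1.symm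
    obtain ⟨j, hj⟩ : ∃ j, orderOf u = 2 * j + 1 := ⟨orderOf u / 2, by omega⟩
    rw [hj, pow_succ, pow_mul, pow_two, hE2 _ (hfE e he), one_pow, one_mul] at h2
    exact hne h2
  obtain ⟨r, hr, hr2, hrc⟩ := I.exists_odd_prime
  haveI := Fact.mk hr
  have hra : ¬ r ∣ a := fun h => hr.ne_one (Nat.eq_one_of_dvd_coprimes I.toData.cop h hrc)
  have hrodd : ∀ u : G, PEl r u → ¬ 2 ∣ orderOf u := fun u hu =>
    not_pel_of_ne hr Nat.prime_two hr2 hu
  have hrne : ∀ u : G, u ≠ 1 → PEl r u → cs u ≠ c := fun u hu1 hu e => hra (by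
    obtain ⟨k, hk⟩ := hu
    have hk0 : k ≠ 0 := fun e' => hu1 (orderOf_eq_one_iff.1 (by rw [hk, e', pow_zero]))
    exact (hk ▸ dvd_pow_self r hk0).trans (I.toData.order_dvd_a_of_c e))
  by_cases hrR : r ∣ Nat.card R
  · have hnob : ∀ v : G, cs v = b → ¬ R ≤ centralizer ({v} : Set G) := by
      intro v hv hle
      obtain ⟨Q⟩ : Nonempty (Sylow r R) := inferInstance
      haveI := hRn
      haveI hQn : (Q : Subgroup R).Normal := Cfsg.Lib.CN.sylow_normal_of_nilpotent Q
      haveI := Sylow.characteristic_of_normal Q hQn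
      set N := (Q : Subgroup R).map R.subtype with hN
      haveI : N.Normal := inferInstance
      obtain ⟨P⟩ : Nonempty (Sylow r (centralizer ({t} : Set G))) := inferInstance
      set P' := (P : Subgroup (centralizer ({t} : Set G))).map
        (centralizer ({t} : Set G)).subtype with hP'
      have hPR : P' ≤ R := by
        rintro _ ⟨w, hw, rfl⟩
        by_contra hwR
        obtain ⟨k, hk⟩ := IsPGroup.iff_orderOf.1 P.2 ⟨w, hw⟩
        rw [Subgroup.orderOf_mk, ← Subgroup.orderOf_coe] at hk
        exact principle _ hwR (hrodd _ ⟨k, hk⟩) (mem_cent.1 w.2)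
      have hPN : P' ≤ N := by
        obtain ⟨Q', hQ'⟩ :=
          ((P.2.map (centralizer ({t} : Set G)).subtype).comap_of_injective R.subtype
            R.subtype_injective).exists_le_sylow
        haveI := Sylow.unique_of_normal Q hQn
        rw [Subsingleton.elim Q' Q] at hQ'
        intro w hw
        exact ⟨⟨w, hPR hw⟩, hQ' hw, rfl⟩
      have hcard : Nat.card N ∣ Nat.card P' := by
        obtain ⟨j, hj⟩ := (Q.2.map R.subtype).exists_card_eq
        rw [hj, hP', card_map_of_injective (subtype_injective _)]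
        refine P.pow_dvd_card_of_pow_dvd_card ?_
        have h1 : Nat.card N ∣ Nat.card (centralizer ({v} : Set G)) :=
          (card_dvd_of_le (map_subtype_le _)).trans (card_dvd_of_le hle)
        rw [hj] at h1
        have h2 := card_cent_mul v
        rw [hv, ← card_cent_mul t, htb] at h2
        rwa [Nat.eq_of_mul_eq_mul_right (by have := I.toData.b_gt; omega) h2] at h1
      have hNP : P' = N := eq_of_le_of_card hPN hcard
      have hNb : N ≠ ⊥ := by
        rw [hN, Ne, map_eq_bot_iff_of_injective _ R.subtype_injective]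
        exact Q.ne_bot_of_dvd_card hrR
      refine htR (I.cent_le_rad hRc hmax hNb (map_subtype_le _) (mem_centralizer_iff.2 ?_))
      intro w hw
      rw [SetLike.mem_coe, ← hNP] at hw
      exact (mem_cent.1 (map_subtype_le _ hw)).eq
    obtain ⟨w, hwR, hwo, hwc⟩ := Cfsg.Lib.CN.exists_central_prime hRn hrR
    have hw1 := ne_one_of_prime hr hwo
    have hRcent : ∀ {x : G}, (∀ r ∈ R, Commute r x) → R ≤ centralizer ({x} : Set G) :=
      fun h r hr' => mem_cent.2 (h r hr')
    have hwa : cs w = a := by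
      rcases I.vals w hw1 with e | e | e
      · exact e
      · exact absurd (hRcent fun x hx => hwc x hx) (hnob w e)
      · exact absurd e (hrne w hw1 (pel_of_prime hwo))
    have hall : ∀ g : G, centralizer ({g * z * g⁻¹} : Set G) = centralizer ({w} : Set G) := by
      intro g
      set z' := g * z * g⁻¹ with hz'
      have hz'E : z' ∈ E := normalClosure_normal.conj_mem z hzE g
      have hz'o : orderOf z' = 2 := (orderOf_conj g z).trans I.zo
      have hz'a : cs z' = a := (cs_conj z g).trans I.za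
      have hcomm : Commute z' w := hwc z' (hZR (hEZ hz'E))
      have he := cent_mul_of_coprime hcomm (by
        rw [hz'o, hwo]; exact (Nat.coprime_primes Nat.prime_two hr).2 hr2.symm)
      have hmem : z' * w ∈ R := mul_mem (hZR (hEZ hz'E)) hwR
      have hne1 : z' * w ≠ 1 := fun e => hr2 (by
        rw [← hwo, ← hz'o, eq_inv_of_mul_eq_one_left e, orderOf_inv])
      have hva : cs (z' * w) = a := by
        rcases I.vals _ hne1 with e | e | e
        · exact e
        · exact absurd (hRcent fun x hx => (hZc z' (hEZ hz'E) x hx).mul_right (hwc x hx))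
            (hnob _ e)
        · exact absurd e (I.cs_ne_c_of_mem hRc hmem)
      rw [← cent_eq_of_le (he ▸ inf_le_left) (hva.trans hz'a.symm),
        cent_eq_of_le (he ▸ inf_le_right) (hva.trans hwa.symm)]
    set B := centralizer ({z} : Set G) with hB
    haveI hBn : B.Normal := ⟨fun x hx g => by
      have h1 : g * x * g⁻¹ ∈ centralizer ({g * z * g⁻¹} : Set G) := by
        rw [cent_conj]; exact mem_map_of_mem _ hx
      have h0 := hall 1
      rw [one_mul, inv_one, mul_one] at h0
      rw [hB, h0, ← hall g]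
      exact h1⟩
    have hBR : B ≤ R :=
      hmax B hBn (.inl (by rw [hB, I.toData.card_of_a I.za]; exact I.toData.cop.symm))
    have h2 := (I.index_not_odd hRn).trans (index_dvd_of_le hBR)
    rw [show B.index = a from I.za] at h2
    exact I.a_odd h2
  · obtain ⟨v, hv1, hvp, hv⟩ := exists_central_pel (G := G) hr (hrc.trans I.toData.c_dvd)
    have hvR : v ∉ R := fun h => hrR (by
      obtain ⟨k, hk⟩ := hvp
      have hk0 : k ≠ 0 := fun e' => hv1 (orderOf_eq_one_iff.1 (by rw [hk, e', pow_zero]))
      exact (hk ▸ dvd_pow_self r hk0).trans (Subgroup.orderOf_dvd_natCard R h))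
    rw [houtb v hvR (hrne v hv1 hvp)] at hv
    have hd : r ∣ Nat.card G := hrc.trans I.toData.c_dvd
    rw [← card_cent_mul t, htb] at hd
    obtain ⟨⟨u, hu⟩, huo⟩ := exists_prime_orderOf_dvd_card'
      (G := centralizer ({t} : Set G)) r ((hr.dvd_mul.1 hd).resolve_right hv)
    rw [Subgroup.orderOf_mk] at huo
    refine principle u (fun h => hrR (huo ▸ Subgroup.orderOf_dvd_natCard R h))
      (hrodd u (pel_of_prime huo)) (mem_cent.1 hu)

end Inv

end Cfsg.Lib.ThreeSizes
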