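import Cfsg.Agent.ThreeSizes.Basic
import Cfsg.Agent.S4146
import Cfsg.Agent.S4255
import Cfsg.Agent.Frobenius.Kernel

/-!
# Three class sizes, two of them comparable: elements of the extreme classes never commute
-/

set_option autoImplicit false
set_option linter.unusedSectionVars false
set_option linter.style.haveILetI false

namespace Cfsg.Lib.ThreeSizes

open Subgroup Cfsg.Lib.ClassSize Cfsg.Lib.ClassSize.RankThree

universe u

variable {G : Type u} [Group G] [Finite G]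

/-- A nonsolvable group with trivial centre whose class sizes other than `1` are `a ∣ b` and `c`. -/
structure Data (G : Type u) [Group G] [Finite G] (a b c : ℕ) : Prop where
  ns : ¬ Group.IsSolvable G
  cen : center G = ⊥
  vals : ∀ y : G, y ≠ 1 → cs y = a ∨ cs y = b ∨ cs y = c
  hab : a ∣ b
  hne : a ≠ b
  ea : ∃ x : G, x ≠ 1 ∧ cs x = a
  eb : ∃ x : G, x ≠ 1 ∧ cs x = b
  ec : ∃ x : G, x ≠ 1 ∧ cs x = c

namespace Data

variable {a b c : ℕ} (D : Data G a b c)
include D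

theorem gt {y : G} (hy : y ≠ 1) : 1 < cs y :=
  Nat.one_lt_iff_ne_zero_and_ne_one.2
    ⟨index_ne_zero_of_finite, fun e => hy (mem_bot.1 (D.cen ▸ cs_eq_one_iff.1 e))⟩

theorem a_gt : 1 < a := by obtain ⟨x, hx, rfl⟩ := D.ea; exact D.gt hx
theorem b_gt : 1 < b := by obtain ⟨x, hx, rfl⟩ := D.eb; exact D.gt hx
theorem c_gt : 1 < c := by obtain ⟨x, hx, rfl⟩ := D.ec; exact D.gt hx
theorem a_dvd : a ∣ Nat.card G := by obtain ⟨x, -, rfl⟩ := D.ea; exact index_dvd_card _
theorem b_dvd : b ∣ Nat.card G := by obtain ⟨x, -, rfl⟩ := D.eb; exact index_dvd_card _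
theorem c_dvd : c ∣ Nat.card G := by obtain ⟨x, -, rfl⟩ := D.ec; exact index_dvd_card _

theorem ne_one {y : G} (h : cs y = a ∨ cs y = b ∨ cs y = c) : y ≠ 1 :=
  ne_one_of_cs fun e => by
    have := D.a_gt; have := D.b_gt; have := D.c_gt; omega

theorem cop : a.Coprime c := Nat.coprime_of_dvd fun p hp h1 h2 => by
  obtain ⟨w, hw1, -, hw⟩ := exists_central_pel (G := G) hp (h1.trans D.a_dvd)
  rcases D.vals w hw1 with e | e | e <;> rw [e] at hw
  exacts [hw h1, hw (h1.trans D.hab), hw h2]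

theorem nac : ¬ a ∣ c := fun h => by
  have := Nat.eq_one_of_dvd_coprimes D.cop dvd_rfl h
  have := D.a_gt; omega

theorem nca : ¬ c ∣ a := fun h => by
  have := Nat.eq_one_of_dvd_coprimes D.cop h dvd_rfl
  have := D.c_gt; omega

theorem nba : ¬ b ∣ a := fun h => D.hne (Nat.dvd_antisymm D.hab h)
theorem nbc : ¬ b ∣ c := fun h => D.nac (D.hab.trans h)

theorem cs_ne_c_of_dvd {q : ℕ} (hqc : q ∣ c) {u : G} (hu : u ≠ 1) (hu' : ¬ q ∣ cs u) :
    cs u ≠ c := fun e => hu' (e ▸ hqc)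

theorem class_c_of {q : ℕ} (hqa : q ∣ a) {u : G} (hu : u ≠ 1) (hu' : ¬ q ∣ cs u) : cs u = c := by
  rcases D.vals u hu with e | e | e
  · exact absurd (e ▸ hqa) hu'
  · exact absurd (e ▸ hqa.trans D.hab) hu'
  · exact e

theorem class_a_of {q : ℕ} (hqb : q ∣ b) (hqc : q ∣ c) {u : G} (hu : u ≠ 1) (hu' : ¬ q ∣ cs u) :
    cs u = a := by
  rcases D.vals u hu with e | e | e
  · exact e
  · exact absurd (e ▸ hqb) hu'
  · exact absurd (e ▸ hqc) hu'

theorem part_a {g u : G} (hu : u ∈ zpowers g) (hu1 : u ≠ 1) (hg : cs g = a) : cs u = a := by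
  have hd := cs_dvd_of_mem_zpowers hu
  rw [hg] at hd
  rcases D.vals u hu1 with f | f | f <;> rw [f] at hd ⊢
  exacts [absurd hd D.nba, absurd hd D.nca]

theorem part_c {g u : G} (hu : u ∈ zpowers g) (hu1 : u ≠ 1) (hg : cs g = c) : cs u = c := by
  have hd := cs_dvd_of_mem_zpowers hu
  rw [hg] at hd
  rcases D.vals u hu1 with f | f | f <;> rw [f] at hd ⊢
  exacts [absurd hd D.nac, absurd hd D.nbc]

theorem minCent_b {x : G} (hx : cs x = b) : MinCent x := by
  intro y hy hd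
  rw [hx] at hd ⊢
  rcases D.vals y hy with e | e | e <;> rw [e] at hd ⊢
  exacts [absurd hd D.nba, absurd hd D.nbc]

theorem part_a_exists : ∃ (x : G) (p : ℕ), p.Prime ∧ PEl p x ∧ cs x = a := by
  obtain ⟨x, hx, hxa⟩ := D.ea
  obtain ⟨r, hr, u, hu, hu1, ho⟩ := exists_part hx
  exact ⟨u, r, hr, ho, D.part_a hu hu1 hxa⟩

/-- The class size `b` has a prime in common with `c`. -/
theorem exists_prime_b_c : ∃ r : ℕ, r.Prime ∧ r ∣ b ∧ r ∣ c := by
  by_contra hno
  push Not at hno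
  obtain ⟨p, hp, hpb⟩ := Nat.exists_prime_and_dvd D.b_gt.ne'
  obtain ⟨q, hq, hqc⟩ := Nat.exists_prime_and_dvd D.c_gt.ne'
  obtain ⟨xb, -, hxb⟩ := D.eb
  obtain ⟨xc, -, hxc⟩ := D.ec
  have hdisc : ∀ p q : ℕ, (p.Prime ∧ ∃ g : G, p ∣ (centralizer ({g} : Set G)).index) →
      (q.Prime ∧ ∃ g : G, q ∣ (centralizer ({g} : Set G)).index) → p ∈ {n : ℕ | n ∣ b} →
      q ∉ {n : ℕ | n ∣ b} → ¬ (∃ g : G, p * q ∣ (centralizer ({g} : Set G)).index) := by
    rintro p q ⟨hp, -⟩ ⟨hq, -⟩ hpS hqS ⟨g, hg⟩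
    change p * q ∣ cs g at hg
    rcases eq_or_ne g 1 with rfl | hg1
    · rw [cs_eq_one_iff.2 (one_mem _), Nat.dvd_one, mul_eq_one] at hg
      exact hp.ne_one hg.1
    have hpg := (dvd_mul_right p q).trans hg
    have hqg := (dvd_mul_left q p).trans hg
    rcases D.vals g hg1 with e | e | e <;> rw [e] at hpg hqg
    · exact hqS (hqg.trans D.hab)
    · exact hqS hqg
    · exact hno p hp hpS hpg
  obtain ⟨H, hH, hHc, hker⟩ := Cfsg.Agent.S4255.result {n : ℕ | n ∣ b}
    ⟨p, hpb, hp, xb, by change p ∣ cs xb; rwa [hxb]⟩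
    ⟨q, fun h => hno q hq h hqc, hq, xc, by change q ∣ cs xc; rwa [hxc]⟩ hdisc
  obtain ⟨N, hN, hNn, hNc⟩ := Cfsg.Lib.Frobenius.exists_kernel hH
  haveI : Group.IsSolvable N := Group.isSolvable_of_comm fun x y => Subtype.ext
    (hker x (hN ▸ x.2) y (hN ▸ y.2))
  haveI : Group.IsSolvable H := Group.isSolvable_of_comm fun x y => hHc.1.1 x y
  haveI : Group.IsSolvable ((G ⧸ center G) ⧸ N) :=
    Group.isSolvable_of_surjective (f := hNc.symm.QuotientMulEquiv.symm.toMonoidHom)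
      hNc.symm.QuotientMulEquiv.symm.surjective
  haveI : Group.IsSolvable (G ⧸ center G) := Group.isSolvable_of_ker_le_range N.subtype
    (QuotientGroup.mk' N) (by rw [QuotientGroup.ker_mk', range_subtype])
  refine D.ns (Group.isSolvable_of_isSolvable_injective (f := QuotientGroup.mk' (center G))
    ((MonoidHom.ker_eq_bot_iff _).1 ?_))
  rw [QuotientGroup.ker_mk', D.cen]

theorem nocomm_diff {x y : G} {p q : ℕ} (hp : p.Prime) (hq : q.Prime) (hpq : p ≠ q)
    (hx : PEl p x) (hy : PEl q y) (hxa : cs x = a) (hyc : cs y = c) : ¬ Commute x y := by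
  intro hxy
  have hcop : (orderOf x).Coprime (orderOf y) := by
    obtain ⟨k, hk⟩ := hx; obtain ⟨l, hl⟩ := hy
    rw [hk, hl]
    exact Nat.Coprime.pow _ _ ((Nat.coprime_primes hp hq).2 hpq)
  have hcs : cs (x * y) = a * c := by
    show (centralizer ({x * y} : Set G)).index = _
    rw [cent_mul_of_coprime hxy hcop, index_inf_of_coprime (by
      rw [show (centralizer ({x} : Set G)).index = a from hxa,
        show (centralizer ({y} : Set G)).index = c from hyc]; exact D.cop)]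
    show cs x * cs y = _
    rw [hxa, hyc]
  have ha := D.a_gt
  have hc := D.c_gt
  have hxy1 : x * y ≠ 1 := ne_one_of_cs (hcs ▸ fun e => by
    have := (mul_eq_one.1 e).1; omega)
  have hbac : b = a * c := by
    rcases D.vals _ hxy1 with e | e | e <;> rw [hcs] at e
    · exact absurd ((mul_eq_left₀ (by omega)).1 e) hc.ne'
    · exact e.symm
    · exact absurd ((mul_eq_right₀ (by omega)).1 e) ha.ne'
  refine D.ns ?_
  have hrange : Set.range (fun z : G => (centralizer ({z} : Set G)).index) =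
      ({1, a, c, a * c} : Set ℕ) := by
    ext n
    simp only [Set.mem_range, Set.mem_insert_iff, Set.mem_singleton_iff]
    constructor
    · rintro ⟨z, rfl⟩
      rcases eq_or_ne z 1 with rfl | hz
      · exact .inl (cs_eq_one_iff.2 (one_mem _))
      · rcases D.vals z hz with e | e | e
        · exact .inr (.inl e)
        · exact .inr (.inr (.inr (hbac ▸ e)))
        · exact .inr (.inr (.inl e))
    · rintro (rfl | rfl | rfl | rfl)
      exacts [⟨1, cs_eq_one_iff.2 (one_mem _)⟩, ⟨x, hxa⟩, ⟨y, hyc⟩, ⟨x * y, hcs⟩]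
  haveI := (Cfsg.Agent.S4146.result a c ha hc D.cop hrange).1
  infer_instance

/-- A `q`-element centralised by a Sylow `q`-subgroup of `G` inside `C(y)`. -/
theorem exists_aux {y : G} {p q : ℕ} (hq : q.Prime) (hp : p.Prime) (hpq : q ≠ p) (hy : PEl p y)
    (hy1 : y ≠ 1) (hd : q ∣ Nat.card G) (hqy : ¬ q ∣ cs y) :
    ∃ u : G, u ≠ 1 ∧ u * y ≠ 1 ∧ PEl q u ∧ Commute u y ∧ ¬ q ∣ cs u ∧ ¬ q ∣ cs (u * y) ∧
      centralizer ({u * y} : Set G) = centralizer ({u} : Set G) ⊓ centralizer ({y} : Set G) := by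
  haveI := Fact.mk hq
  set C := centralizer ({y} : Set G) with hC
  obtain ⟨Q⟩ : Nonempty (Sylow q C) := inferInstance
  have hdC : q ∣ Nat.card C := by
    rw [← C.card_mul_index] at hd
    exact (hq.dvd_mul.1 hd).resolve_right hqy
  haveI : Nontrivial (Q : Subgroup C) := (nontrivial_iff_ne_bot _).2 (Q.ne_bot_of_dvd_card hdC)
  haveI := Q.2.center_nontrivial
  obtain ⟨⟨⟨⟨u, huC⟩, huQ⟩, huc⟩, hu1'⟩ := exists_ne (1 : center (Q : Subgroup C))
  have hu1 : u ≠ 1 := fun e => hu1' (Subtype.ext (Subtype.ext (Subtype.ext e)))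
  have hupel : PEl q u := by
    obtain ⟨k, hk⟩ := IsPGroup.iff_orderOf.1 Q.2 ⟨⟨u, huC⟩, huQ⟩
    exact ⟨k, by rw [← hk, Subgroup.orderOf_mk, Subgroup.orderOf_mk]⟩
  have hcomm : Commute u y := mem_cent.1 huC
  have hcop : (orderOf u).Coprime (orderOf y) := by
    obtain ⟨k, hk⟩ := hupel; obtain ⟨l, hl⟩ := hy
    rw [hk, hl]
    exact Nat.Coprime.pow _ _ ((Nat.coprime_primes hq hp).2 hpq)
  have hidx : ¬ q ∣ ((Q : Subgroup C).map C.subtype).index := by
    rw [index_map_subtype]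
    exact fun h => (hq.dvd_mul.1 h).elim Q.not_dvd_index hqy
  have hle : (Q : Subgroup C).map C.subtype ≤ centralizer ({u} : Set G) ⊓ C := by
    rintro _ ⟨v, hv, rfl⟩
    exact ⟨mem_cent.2 (congrArg (fun w : (Q : Subgroup C) => ((w : C) : G))
      (Subgroup.mem_center_iff.1 huc ⟨v, hv⟩)), v.2⟩
  have he := cent_mul_of_coprime hcomm hcop
  refine ⟨u, hu1, fun e => hy1 ?_, hupel, hcomm, fun h => hidx (h.trans (index_dvd_of_le
    (hle.trans inf_le_left))), fun h => hidx (h.trans (index_dvd_of_le (he ▸ hle))), he⟩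
  have h' : orderOf u = orderOf y := by rw [eq_inv_of_mul_eq_one_left e, orderOf_inv]
  rw [h', Nat.coprime_self] at hcop
  exact orderOf_eq_one_iff.1 hcop

/-- Elements of classes `a` and `c` do not commute. -/
theorem nocomm {x y : G} (hxa : cs x = a) (hyc : cs y = c) : ¬ Commute x y := by
  intro hxy
  obtain ⟨p, hp, x', hx', hx'1, hx'p⟩ := exists_part (D.ne_one (.inl hxa))
  obtain ⟨p', hp', y', hy', hy'1, hy'p⟩ := exists_part (D.ne_one (.inr (.inr hyc)))
  have hxa' := D.part_a hx' hx'1 hxa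
  have hyc' := D.part_c hy' hy'1 hyc
  obtain ⟨i, rfl⟩ := mem_zpowers_iff.1 hx'
  obtain ⟨j, rfl⟩ := mem_zpowers_iff.1 hy'
  have hxy' : Commute (x ^ i) (y ^ j) := hxy.zpow_zpow i j
  by_cases hpp : p ≠ p'
  · exact D.nocomm_diff hp hp' hpp hx'p hy'p hxa' hyc' hxy'
  push Not at hpp
  subst hpp
  generalize x ^ i = x at hx'1 hx'p hxa' hxy'
  generalize y ^ j = y at hy'1 hy'p hyc' hxy'
  have hqc : ∀ q, q.Prime → q ∣ a → ¬ q ∣ c := fun q hq h1 h2 =>
    hq.ne_one (Nat.eq_one_of_dvd_coprimes D.cop h1 h2)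
  by_cases hq : ∃ q : ℕ, q.Prime ∧ q ∣ a ∧ q ≠ p
  · obtain ⟨q, hq, hqa, hqp⟩ := hq
    obtain ⟨u, hu1, huy1, hu, huy, hqu, hquy, he⟩ :=
      D.exists_aux hq hp hqp hy'p hy'1 (hqa.trans D.a_dvd) (hyc'.symm ▸ hqc q hq hqa)
    have huc := D.class_c_of hqa hu1 hqu
    have huyc := D.class_c_of hqa huy1 hquy
    have h1 : centralizer ({u * y} : Set G) = centralizer ({u} : Set G) :=
      cent_eq_of_le (he ▸ inf_le_left) (huyc.trans huc.symm)
    have h2 : centralizer ({u * y} : Set G) = centralizer ({y} : Set G) :=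
      cent_eq_of_le (he ▸ inf_le_right) (huyc.trans hyc'.symm)
    refine D.nocomm_diff hp hq hqp.symm hx'p hu hxa' huc (mem_cent.1 ?_)
    rw [← h1, h2]
    exact mem_cent.2 hxy'
  · push Not at hq
    obtain ⟨q, hq', hqa⟩ := Nat.exists_prime_and_dvd D.a_gt.ne'
    obtain rfl := hq q hq' hqa
    obtain ⟨r, hr, hrb, hrc⟩ := D.exists_prime_b_c
    have hrp : r ≠ q := fun e => hqc q hq' hqa (e ▸ hrc)
    have hra : ¬ r ∣ a := fun h => hqc r hr h hrc
    obtain ⟨u, hu1, hux1, hu, hux, hru, hrux, he⟩ :=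
      D.exists_aux hr hp hrp hx'p hx'1 (hrc.trans D.c_dvd) (hxa'.symm ▸ hra)
    have hua := D.class_a_of hrb hrc hu1 hru
    have huxa := D.class_a_of hrb hrc hux1 hrux
    have h1 : centralizer ({u * x} : Set G) = centralizer ({u} : Set G) :=
      cent_eq_of_le (he ▸ inf_le_left) (huxa.trans hua.symm)
    have h2 : centralizer ({u * x} : Set G) = centralizer ({x} : Set G) :=
      cent_eq_of_le (he ▸ inf_le_right) (huxa.trans hxa'.symm)
    refine D.nocomm_diff hr hp hrp hu hy'p hua hyc' (Commute.symm (mem_cent.1 ?_))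
    rw [← h1, h2]
    exact mem_cent.2 hxy'.symm

/-- An element of class `a` of prime power order has order prime to `a`. -/
theorem not_dvd_a_of_class_a {x : G} {p : ℕ} (hp : p.Prime) (hx : PEl p x) (hxa : cs x = a) :
    ¬ p ∣ a := by
  intro hpa
  obtain ⟨y, hy1, -, hy⟩ := exists_central_pel (G := G) hp (hpa.trans D.a_dvd)
  have hyc := D.class_c_of hpa hy1 hy
  obtain ⟨g, hg⟩ := exists_conj_mem (H := centralizer ({y} : Set G)) hp hy hx
  exact D.nocomm (x := g * x * g⁻¹) (by rw [cs_conj, hxa]) hyc (mem_cent.1 hg)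

end Data

end Cfsg.Lib.ThreeSizes
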