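import Cfsg.Agent.ThreeSizes.Core
import Cfsg.Agent.S4134
import Cfsg.Agent.Frobenius.FpfGroups
import Cfsg.Agent.Coprime.Basic
import Cfsg.Agent.Thompson.FixedPointFree
import Mathlib.GroupTheory.FixedPointFree

/-!
# An involution in the smallest class: the soluble radical has order prime to `a` and is nilpotent
-/

set_option autoImplicit false
set_option linter.unusedSectionVars false
set_option linter.style.haveILetI false

namespace Cfsg.Lib.ThreeSizes

open Subgroup Cfsg.Lib.ClassSize Cfsg.Lib.ClassSize.RankThree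
open scoped commutatorElement

universe u

variable {G : Type u} [Group G] [Finite G]

theorem orderOf_conj (g x : G) : orderOf (g * x * g⁻¹) = orderOf x :=
  (MulAut.conj g).orderOf_eq x

/-- A fixed-point-free involution inverts a normal subgroup. -/
theorem inverts_of_fpf {K : Subgroup G} [K.Normal] {t : G} (ht : orderOf t = 2)
    (h : ∀ v ∈ K, Commute t v → v = 1) {v : G} (hv : v ∈ K) : t * v * t⁻¹ = v⁻¹ := by
  set φ := (MulAut.conjNormal (H := K) t).toMonoidHom
  have hf : MonoidHom.FixedPointFree φ := fun x hx =>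
    Subtype.ext (h x x.2 (mul_inv_eq_iff_eq_mul.1 (congrArg Subtype.val hx)))
  have hi : Function.Involutive φ := fun x => Subtype.ext (by
    show t * (t * (x : G) * t⁻¹) * t⁻¹ = x
    have htt : t * t = 1 := by rw [← pow_two, ← ht, pow_orderOf_eq_one]
    calc t * (t * (x : G) * t⁻¹) * t⁻¹ = (t * t) * (x : G) * (t * t)⁻¹ := by group
      _ = x := by rw [htt]; group)
  exact congrArg Subtype.val (congrFun (hf.coe_eq_inv_of_involutive hi) ⟨v, hv⟩)

/-- A nonsolvable group with three class sizes and an involution in the smallest class. -/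
structure Inv (G : Type u) [Group G] [Finite G] (a b c : ℕ) (z : G) : Prop extends Data G a b c where
  zo : orderOf z = 2
  za : cs z = a

namespace Inv

variable {a b c : ℕ} {z : G} (I : Inv G a b c z)
include I

theorem a_odd : ¬ 2 ∣ a := I.toData.not_dvd_a_of_class_a Nat.prime_two (pel_of_prime I.zo) I.za

theorem z_ne : z ≠ 1 := ne_one_of_prime Nat.prime_two I.zo

theorem cs_ne_c_of_commute_z {v : G} (hv : Commute z v) : cs v ≠ c := fun e => by
  have h := I.toData.cs_c_of_commute e I.z_ne hv
  rw [I.za] at h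
  exact I.toData.nac (dvd_of_eq h)

/-- No nontrivial normal subgroup consists of elements of class `c`. -/
theorem eq_bot_of_class_c (N : Subgroup G) [N.Normal] (h : ∀ x ∈ N, x ≠ 1 → cs x = c) : N = ⊥ := by
  by_contra hN
  obtain ⟨x, hx, hx1⟩ := (bot_or_exists_ne_one N).resolve_left hN
  have hfix : ∀ g : G, ∀ v ∈ N, Commute (g * z * g⁻¹) v → v = 1 := fun g v hv hc => by
    by_contra hv1
    have e := I.toData.cs_c_of_commute (h v hv hv1)
      (fun e => I.z_ne (conj_eq_one_iff.1 e)) hc
    rw [cs_conj, I.za] at e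
    exact I.toData.nac (dvd_of_eq e)
  have hinv : ∀ g : G, ∀ v ∈ N, g * z * g⁻¹ * v * (g * z * g⁻¹)⁻¹ = v⁻¹ := fun g v hv =>
    inverts_of_fpf ((orderOf_conj g z).trans I.zo) (hfix g) hv
  set C := centralizer (N : Set G) with hC
  have hCx : C ≤ centralizer ({x} : Set G) := centralizer_le (by simpa using hx)
  have hCa : Nat.card C ∣ a := by
    have := card_dvd_of_le hCx
    rwa [I.toData.card_of_c (h x hx hx1)] at this
  have hCodd : ¬ 2 ∣ Nat.card C := fun h2 => I.a_odd (h2.trans hCa)
  have hCc : ∀ v ∈ C, v ≠ 1 → cs v = c := fun v hv hv1 =>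
    I.toData.cs_c_of_commute (h x hx hx1) hv1 (mem_cent.1 (hCx hv))
  have hCinv : ∀ v ∈ C, z * v * z⁻¹ = v⁻¹ := fun v hv =>
    inverts_of_fpf I.zo (fun w hw hc => by
      by_contra hw1
      exact I.cs_ne_c_of_commute_z hc (hCc w hw hw1)) hv
  set B := centralizer ({z} : Set G) with hB
  -- the group is `C B`
  have htop : C ⊔ B = ⊤ := by
    refine eq_top_iff.2 fun g _ => ?_
    set t := g * z * g⁻¹ with ht
    have hzz : z * z = 1 := by rw [← pow_two, ← I.zo, pow_orderOf_eq_one]
    have hzi : z⁻¹ = z := inv_eq_of_mul_eq_one_right hzz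
    have hd : z * t ∈ C := by
      refine mem_centralizer_iff.2 fun v hv => ?_
      have h1 := hinv 1 v⁻¹ (inv_mem hv)
      simp only [one_mul, inv_one, mul_one, inv_inv] at h1
      calc v * (z * t) = z * v⁻¹ * z⁻¹ * (z * t) := by rw [h1]
        _ = z * (t * v * t⁻¹) * t := by rw [hinv g v hv]; group
        _ = z * t * v := by group
    set d := z * t with hd'
    set k := orderOf d with hk
    have hkodd : ¬ 2 ∣ k := fun h2 => hCodd (h2.trans (Subgroup.orderOf_dvd_natCard _ hd))
    set w := d ^ ((k + 1) / 2) with hw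
    have hwC : w ∈ C := pow_mem hd _
    have hw2 : w * w = d := by
      rw [hw, ← pow_add, show (k + 1) / 2 + (k + 1) / 2 = k + 1 by omega, pow_succ,
        hk, pow_orderOf_eq_one, one_mul]
    have hwt : w⁻¹ * z * w = t := by
      have h1 : w⁻¹ * z = z * w := by
        have h2 := hCinv w hwC
        rw [hzi] at h2
        calc w⁻¹ * z = z * w * z * z := by rw [h2]
          _ = z * w * (z * z) := by group
          _ = z * w := by rw [hzz, mul_one]
      rw [h1, mul_assoc, hw2, hd', ← mul_assoc, hzz, one_mul]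
    have hwg : w * g ∈ B := by
      refine mem_cent.2 ?_
      show w * g * z = z * (w * g)
      calc w * g * z = w * t * g := by rw [ht]; group
        _ = w * (w⁻¹ * z * w) * g := by rw [hwt]
        _ = z * (w * g) := by group
    rw [show g = w⁻¹ * (w * g) by group]
    exact mul_mem (mem_sup_left (inv_mem hwC)) (mem_sup_right hwg)
  have hcopCB : (Nat.card C).Coprime (Nat.card B) :=
    (I.toData.cop.coprime_dvd_left hCa).coprime_dvd_right (I.toData.card_of_a I.za).dvd
  have hinf : C ⊓ B = ⊥ := inf_eq_bot_of_coprime hcopCB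
  -- centralisers of elements of `B`
  have hle : ∀ u ∈ B, u ≠ 1 → centralizer ({u} : Set G) ≤ B := by
    intro u hu hu1 g hg
    obtain ⟨v, hv, k, hk, rfl⟩ := mem_sup_of_normal_left.1 (htop ▸ mem_top g : g ∈ C ⊔ B)
    have hguv : v * (k * u * k⁻¹) * v⁻¹ = u := by
      calc v * (k * u * k⁻¹) * v⁻¹ = v * k * u * (v * k)⁻¹ := by group
        _ = u := by rw [(mem_cent.1 hg).eq]; group
    have h1 : u⁻¹ * (k * u * k⁻¹) = (u⁻¹ * v⁻¹ * u) * v := by
      conv_rhs => enter [1, 2]; rw [← hguv]
      group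
    have h2 : u⁻¹ * (k * u * k⁻¹) = 1 := by
      rw [← mem_bot, ← hinf]
      refine mem_inf.2 ⟨?_, mul_mem (inv_mem hu) (mul_mem (mul_mem hk hu) (inv_mem hk))⟩
      rw [h1]
      have hn : C.Normal := inferInstance
      exact mul_mem (by simpa using hn.conj_mem _ (inv_mem hv) u⁻¹) hv
    rw [inv_mul_eq_one] at h2
    rw [← h2] at hguv
    have hvc : Commute v u := mul_inv_eq_iff_eq_mul.1 hguv
    have hv1 : v = 1 := by
      by_contra hv1
      exact I.cs_ne_c_of_commute_z (mem_cent.1 hu).symm
        (I.toData.cs_c_of_commute (hCc v hv hv1) hu1 hvc.symm)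
    rw [hv1, one_mul]
    exact hk
  obtain ⟨m, hm⟩ := I.hab
  have hBsizes : ∀ x : B, (centralizer ({x} : Set B)).index = 1 ∨
      (centralizer ({x} : Set B)).index = m := by
    intro x
    rcases eq_or_ne x 1 with rfl | hx1
    · exact .inl (cs_eq_one_iff.2 (one_mem _))
    have hxG : (x : G) ≠ 1 := fun e => hx1 (Subtype.ext e)
    have e : centralizer ({x} : Set B) = (centralizer ({(x : G)} : Set G)).subgroupOf B := by
      ext y
      rw [mem_subgroupOf, mem_cent, mem_cent]
      exact ⟨fun hy => congrArg Subtype.val hy.eq, fun hy => Subtype.ext hy.eq⟩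
    rw [e]
    have h1 := relIndex_mul_index (hle x x.2 hxG)
    rw [show B.index = a from I.za] at h1
    change (centralizer ({(x : G)} : Set G)).relIndex B = 1 ∨ _ = m
    have ha : 0 < a := by have := I.toData.a_gt; omega
    rcases I.vals x hxG with e | e | e
    · refine .inl (Nat.eq_of_mul_eq_mul_right ha ?_)
      rw [one_mul, h1]; exact e
    · refine .inr (Nat.eq_of_mul_eq_mul_right ha ?_)
      rw [mul_comm m, ← hm, ← e]; exact h1
    · exact absurd e (I.cs_ne_c_of_commute_z (mem_cent.1 x.2).symm)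
  haveI hBsol : Group.IsSolvable B := by
    by_cases hex : ∃ x : B, (centralizer ({x} : Set B)).index = m
    · have hm1 : 1 < m := by
        rcases m with _ | _ | m
        · have := I.toData.b_gt; omega
        · exact absurd (by rw [hm, Nat.mul_one]) I.hne
        · omega
      obtain ⟨p, hp, -, -, hP⟩ := Cfsg.Agent.S4134.result m hm1 hBsizes hex
      haveI := hp
      obtain ⟨P⟩ : Nonempty (Sylow p B) := inferInstance
      obtain ⟨hPn, ⟨N, hN, hNc, hNab, -⟩, -⟩ := hP P
      haveI := hPn
      haveI := hN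
      haveI := P.2.isNilpotent
      haveI : Group.IsSolvable N := Group.isSolvable_of_comm fun v w => hNab.1.1 v w
      haveI : Group.IsSolvable (B ⧸ N) :=
        Group.isSolvable_of_surjective (f := hNc.symm.QuotientMulEquiv.symm.toMonoidHom)
          hNc.symm.QuotientMulEquiv.symm.surjective
      exact Group.isSolvable_of_ker_le_range N.subtype (QuotientGroup.mk' N)
        (by rw [QuotientGroup.ker_mk', range_subtype])
    · push Not at hex
      refine Group.isSolvable_of_comm fun v w => ?_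
      have hv := cs_eq_one_iff.1 ((hBsizes v).resolve_right (hex v))
      exact (Subgroup.mem_center_iff.1 hv w).symm
  haveI : Group.IsSolvable C := Group.isSolvable_of_comm fun v w => by
    refine Subtype.ext ?_
    have h1 := hCinv _ (mul_mem v.2 w.2)
    rw [mul_inv_rev, ← hCinv _ v.2, ← hCinv _ w.2] at h1
    have h2 : z * (v * w) * z⁻¹ = z * (w * v) * z⁻¹ := h1.trans (by group)
    exact mul_left_cancel (mul_right_cancel h2)
  haveI : Group.IsSolvable (G ⧸ C) := Group.isSolvable_of_surjective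
    (f := (QuotientGroup.mk' C).comp B.subtype) fun q => by
      obtain ⟨g, rfl⟩ := QuotientGroup.mk'_surjective C q
      obtain ⟨v, hv, k, hk, rfl⟩ := mem_sup_of_normal_left.1 (htop ▸ mem_top g : g ∈ C ⊔ B)
      exact ⟨⟨k, hk⟩, by simp [(QuotientGroup.eq_one_iff v).2 hv]⟩
  exact I.ns (Group.isSolvable_of_ker_le_range C.subtype (QuotientGroup.mk' C)
    (by rw [QuotientGroup.ker_mk', range_subtype]))

/-- An element of a subgroup of order prime to `a` does not commute with one of class `c`. -/
theorem eq_one_of_commute_c {K : Subgroup G} (hK : (Nat.card K).Coprime a) {u v : G} (hu : cs u = c)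
    (hv : v ∈ K) (h : Commute v u) : v = 1 := by
  by_contra hv1
  refine hv1 (orderOf_eq_one_iff.1 (Nat.eq_one_of_dvd_coprimes hK
    (Subgroup.orderOf_dvd_natCard K hv) ?_))
  exact I.toData.order_dvd_a_of_c (I.toData.cs_c_of_commute hu hv1 h)

theorem coprime_of_solvable (N : Subgroup G) (hN : N.Normal) (hs : Group.IsSolvable N) :
    (Nat.card N).Coprime a := by
  suffices key : ∀ (n : ℕ) (N : Subgroup G), Nat.card N = n → N.Normal → Group.IsSolvable N →
      (Nat.card N).Coprime a from key _ N rfl hN hs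
  clear hN hs N
  intro n
  induction n using Nat.strong_induction_on with
  | _ n ih =>
  intro N hn hN hs
  by_contra hncop
  obtain ⟨q, hq, hqN, hqa⟩ := Nat.Prime.not_coprime_iff_dvd.1 hncop
  haveI := Fact.mk hq
  have hq2 : q ≠ 2 := fun e => I.a_odd (e ▸ hqa)
  haveI := hs
  haveI := hN
  have hNb : N ≠ ⊥ := fun e => hq.ne_one (by rwa [e, card_bot, Nat.dvd_one] at hqN)
  set M := ⁅N, N⁆ with hM
  haveI hMn : M.Normal := by rw [hM]; infer_instance
  have hMN : M ≤ N := commutator_le_left N N
  haveI : Group.IsSolvable M := Cfsg.Lib.Coprime.isSolvable_of_le hMN hs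
  have hMlt : Nat.card M < n := by
    rw [← hn]
    refine lt_of_le_of_ne (card_le_of_le hMN) fun e => ?_
    have hMeq : M = N := eq_of_le_of_card_ge hMN e.ge
    haveI : Nontrivial N := N.nontrivial_iff_ne_bot.2 hNb
    refine (Group.IsSolvable.commutator_lt_top_of_nontrivial N).ne
      (map_injective N.subtype_injective ?_)
    rw [_root_.commutator_def, map_commutator, ← MonoidHom.range_eq_map, range_subtype]
    exact hMeq
  have hMcop := ih _ hMlt M rfl hMn inferInstance
  -- a Sylow subgroup of `N`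
  obtain ⟨U₀⟩ : Nonempty (Sylow q N) := inferInstance
  set U := (U₀ : Subgroup N).map N.subtype with hU
  have hUN : U ≤ N := map_subtype_le _
  have hUp : IsPGroup q U := U₀.2.map _
  have hUb : U ≠ ⊥ := by
    rw [hU, Ne, map_eq_bot_iff_of_injective _ N.subtype_injective]
    exact U₀.ne_bot_of_dvd_card hqN
  have hUM : U ⊓ M = ⊥ := inf_eq_bot_of_coprime (by
    obtain ⟨i, hi⟩ := hUp.exists_card_eq
    rw [hi]
    exact Nat.Coprime.pow_left i (hq.coprime_iff_not_dvd.2 fun hd =>
      hq.ne_one (Nat.eq_one_of_dvd_coprimes hMcop hd hqa)))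
  have hUcomm : ∀ u ∈ U, ∀ v ∈ U, u * v = v * u := by
    intro u hu v hv
    have h1 : ⁅u, v⁆ ∈ U ⊓ M := mem_inf.2 ⟨by
      rw [commutatorElement_def]; exact mul_mem (mul_mem (mul_mem hu hv) (inv_mem hu)) (inv_mem hv),
      commutator_mem_commutator (hUN hu) (hUN hv)⟩
    rw [hUM, mem_bot, commutatorElement_eq_one_iff_commute] at h1
    exact h1.eq
  have hqel : ∀ y ∈ N, PEl q y → y ∈ M ⊔ U := by
    intro y hy hyp
    obtain ⟨i, hi⟩ := hyp
    obtain ⟨k, hk⟩ := exists_conj_mem (G := N) (H := (U₀ : Subgroup N)) hq U₀.not_dvd_index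
      (g := ⟨y, hy⟩) ⟨i, by rw [Subgroup.orderOf_mk]; exact hi⟩
    set u := (k : G) * y * (k : G)⁻¹ with hu
    have huU : u ∈ U := ⟨_, hk, rfl⟩
    have hy' : y = ⁅(k : G)⁻¹, u⁆ * u := by
      rw [commutatorElement_def, hu]; group
    rw [hy']
    exact mul_mem (mem_sup_left (commutator_mem_commutator (inv_mem k.2) (hUN huU)))
      (mem_sup_right huU)
  set K := M ⊔ U with hK
  have hKN : K ≤ N := sup_le hMN hUN
  haveI hKn : K.Normal := by
    refine ⟨fun y hy g => ?_⟩
    obtain ⟨v, hv, u, hu, rfl⟩ := mem_sup_of_normal_left.1 hy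
    rw [show g * (v * u) * g⁻¹ = (g * v * g⁻¹) * (g * u * g⁻¹) by group]
    refine mul_mem (mem_sup_left (hMn.conj_mem v hv g)) (hqel _ (hN.conj_mem u (hUN hu) g) ?_)
    obtain ⟨i, hi⟩ := IsPGroup.iff_orderOf.1 hUp ⟨u, hu⟩
    exact ⟨i, by rw [orderOf_conj, ← hi, Subgroup.orderOf_mk]⟩
  by_cases hMb : M = ⊥
  · have hKU : K = U := by rw [hK, hMb, bot_sup_eq]
    haveI : U.Normal := hKU ▸ hKn
    refine hUb (I.eq_bot_of_class_c U fun x hx hx1 => I.toData.cs_c fun hc => hx1 ?_)
    obtain ⟨i, hi⟩ := IsPGroup.iff_orderOf.1 hUp ⟨x, hx⟩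
    rw [Subgroup.orderOf_mk] at hi
    rcases Nat.eq_zero_or_pos i with rfl | hi0
    · rw [← orderOf_eq_one_iff, hi, pow_zero]
    · exact absurd (Nat.eq_one_of_dvd_coprimes hc (hi ▸ dvd_pow_self q hi0.ne') hqa) hq.ne_one
  have hUc : ∀ u ∈ U, u ≠ 1 → cs u = c := fun u hu hu1 => I.toData.cs_c fun hc => hu1 (by
    obtain ⟨i, hi⟩ := IsPGroup.iff_orderOf.1 hUp ⟨u, hu⟩
    rw [Subgroup.orderOf_mk] at hi
    rcases Nat.eq_zero_or_pos i with rfl | hi0
    · rw [← orderOf_eq_one_iff, hi, pow_zero]
    · exact absurd (Nat.eq_one_of_dvd_coprimes hc (hi ▸ dvd_pow_self q hi0.ne') hqa) hq.ne_one)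
  have hfpf : Cfsg.Lib.Frobenius.Fpf U M := fun u hu hu1 => by
    rw [eq_bot_iff_forall]
    exact fun v hv => I.eq_one_of_commute_c hMcop (hUc u hu hu1) hv.1 (mem_cent.1 hv.2)
  haveI hUcyc : IsCyclic U :=
    (hfpf.isCyclic_or_quaternion (by rw [normalizer_eq_top]; exact le_top) hMb hUp).resolve_right
      fun h => hq2 h.1
  -- Frattini
  obtain ⟨U₁, hU₁⟩ := (hUp.comap_of_injective K.subtype K.subtype_injective).exists_le_sylow
  have hU₁eq : (U₁ : Subgroup K).map K.subtype = U := by
    have h1 : U ≤ (U₁ : Subgroup K).map K.subtype := fun u hu =>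
      ⟨⟨u, mem_sup_right hu⟩, hU₁ hu, rfl⟩
    have h2 : ((U₁ : Subgroup K).map K.subtype).subgroupOf N = (U₀ : Subgroup N) :=
      U₀.3 ((U₁.2.map _).comap_of_injective _ N.subtype_injective) fun u hu => h1 ⟨u, hu, rfl⟩
    conv_rhs => rw [hU, ← h2, subgroupOf_map_subtype]
    rw [inf_of_le_left ((map_subtype_le _).trans hKN)]
  have hfr := Sylow.normalizer_sup_eq_top U₁
  rw [hU₁eq] at hfr
  set T := normalizer (U : Set G) with hT
  have hTM : M ⊔ T = ⊤ := by
    rw [eq_top_iff, ← hfr]
    exact sup_le le_sup_right (sup_le le_sup_left (le_normalizer.trans le_sup_right))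
  haveI : Group.IsSolvable (MulAut U) := Group.isSolvable_of_comm fun f g =>
    (IsCyclic.mulAutMulEquiv U).injective (by rw [map_mul, map_mul, mul_comm])
  obtain ⟨u, hu, hu1⟩ := (bot_or_exists_ne_one U).resolve_left hUb
  haveI : Group.IsSolvable U.normalizerMonoidHom.ker := by
    haveI := I.toData.solvable_cent_c (hUc u hu hu1)
    let f : U.normalizerMonoidHom.ker →* centralizer ({u} : Set G) :=
      { toFun := fun x => ⟨((x : normalizer (U : Set G)) : G), by
          have hx : (x : normalizer (U : Set G)) ∈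
              (centralizer (U : Set G)).subgroupOf (normalizer (U : Set G)) :=
            (normalizerMonoidHom_ker U).le x.2
          rw [mem_subgroupOf] at hx
          exact mem_cent.2 (mem_centralizer_iff.1 hx u hu).symm⟩
        map_one' := rfl
        map_mul' := fun _ _ => rfl }
    exact Group.isSolvable_of_isSolvable_injective (f := f) fun x y e =>
      Subtype.ext (Subtype.ext (congrArg Subtype.val e :))
  haveI : Group.IsSolvable T := Group.isSolvable_of_ker_le_range
    U.normalizerMonoidHom.ker.subtype U.normalizerMonoidHom (by rw [range_subtype])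
  haveI : Group.IsSolvable (G ⧸ M) := Group.isSolvable_of_surjective
    (f := (QuotientGroup.mk' M).comp T.subtype) fun x => by
      obtain ⟨g, rfl⟩ := QuotientGroup.mk'_surjective M x
      obtain ⟨v, hv, k, hk, rfl⟩ := mem_sup_of_normal_left.1 (hTM ▸ mem_top g : g ∈ M ⊔ T)
      exact ⟨⟨k, hk⟩, by simp [(QuotientGroup.eq_one_iff v).2 hv]⟩
  exact I.ns (Group.isSolvable_of_ker_le_range M.subtype (QuotientGroup.mk' M)
    (by rw [QuotientGroup.ker_mk', range_subtype]))

theorem nilpotent_of_coprime (K : Subgroup G) [K.Normal] (hK : (Nat.card K).Coprime a) :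
    Group.IsNilpotent K := by
  obtain ⟨q, hq, hqa⟩ := Nat.exists_prime_and_dvd I.toData.a_gt.ne'
  haveI := Fact.mk hq
  obtain ⟨u, huo⟩ := exists_prime_orderOf_dvd_card' (G := G) q (hqa.trans I.toData.a_dvd)
  refine Cfsg.Lib.Thompson.isNilpotent_of_fpf (G := K)
    (MulAut.conjNormal (H := K) u).toMonoidHom (fun x hx => Subtype.ext ?_) hq (funext fun x => ?_)
  · exact I.eq_one_of_commute_c hK (I.toData.cs_c_of_prime hq hqa huo) x.2
      (mul_inv_eq_iff_eq_mul.1 (congrArg Subtype.val hx)).symm
  · have key : ∀ n : ℕ, ((((MulAut.conjNormal (H := K) u).toMonoidHom : K → K)^[n] x : K) : G) =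
        u ^ n * x * (u ^ n)⁻¹ := by
      intro n
      induction n with
      | zero => simp
      | succ n ih =>
        rw [Function.iterate_succ_apply', MulEquiv.coe_toMonoidHom, MulAut.conjNormal_apply]
        rw [MulEquiv.coe_toMonoidHom] at ih
        rw [ih, pow_succ']
        group
    refine Subtype.ext ?_
    rw [key, ← huo, pow_orderOf_eq_one]
    simp

/-- The greatest normal subgroup of order prime to `a`. -/
theorem exists_radical : ∃ R : Subgroup G, R.Normal ∧ (Nat.card R).Coprime a ∧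
    Group.IsNilpotent R ∧ ∀ K : Subgroup G, K.Normal →
      ((Nat.card K).Coprime a ∨ Group.IsSolvable K) → K ≤ R := by
  haveI : Nonempty {K : Subgroup G // K.Normal ∧ (Nat.card K).Coprime a} :=
    ⟨⟨⊥, inferInstance, by rw [card_bot]; exact Nat.coprime_one_left a⟩⟩
  obtain ⟨⟨R, hR, hRc⟩, hmax⟩ := Finite.exists_max
    fun K : {K : Subgroup G // K.Normal ∧ (Nat.card K).Coprime a} => Nat.card K.1
  haveI := hR
  refine ⟨R, hR, hRc, I.nilpotent_of_coprime R hRc, fun K hK hor => ?_⟩
  haveI := hK
  have hKc : (Nat.card K).Coprime a := hor.elim id fun hs => I.coprime_of_solvable K hK hs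
  have h := hmax ⟨R ⊔ K, inferInstance,
    Nat.Coprime.coprime_dvd_left card_sup_dvd (Nat.Coprime.mul_left hRc hKc)⟩
  exact (eq_of_le_of_card_ge (le_sup_left : R ≤ R ⊔ K) h).symm ▸ le_sup_right

end Inv

end Cfsg.Lib.ThreeSizes
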